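import Cfsg.Agent.H663.EP.KronC4
import Cfsg.Agent.H111.EP.SpAsm

/-!
# S3499: the tensor product subgroups of `Sp` (helper663), row `SpC4`
-/

set_option autoImplicit false
set_option linter.unusedSectionVars false

namespace Cfsg.Agent.H663.EP

open Matrix Cfsg.Geo Subgroup Cfsg.Agent.H284 Cfsg.Agent.H419.EP
open scoped MatrixGroups Kronecker

section alt

variable {F : Type*} [Field F] {p q : ℕ}

theorem nu_mul (G : Matrix (Fin p) (Fin p) F) (u v : Fin p → F) (z : Fin p → F) :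
    (nu G u * nu G v) *ᵥ z = (fo G z v * fo G v u) • u := by
  rw [← Matrix.mulVec_mulVec, nu_mulVec, nu_mulVec, fo_smul_left]

theorem nu_transpose {G : Matrix (Fin p) (Fin p) F} {s : F} (hG : Gᵀ = s • G) (u : Fin p → F) :
    (nu G u)ᵀ * G = s • (G * nu G u) := by
  unfold nu
  rw [Matrix.transpose_vecMulVec, Matrix.vecMulVec_mul, Matrix.mul_vecMulVec, ← Matrix.mulVec_transpose, hG,
    Matrix.smul_mulVec, Matrix.vecMulVec_smul]

/-- the transvection `z ↦ z + f(z, u) u` -/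
def tv {G : Matrix (Fin p) (Fin p) F} (hG : Alt G) (u : Fin p → F) : GL (Fin p) F where
  val := 1 + nu G u
  inv := 1 - nu G u
  val_inv := by
    rw [mul_sub, mul_one, add_mul, one_mul, hG.nu_sq, add_zero]
    abel
  inv_val := by
    rw [mul_add, mul_one, sub_mul, one_mul, hG.nu_sq, sub_zero]
    abel

theorem tv_val {G : Matrix (Fin p) (Fin p) F} (hG : Alt G) (u : Fin p → F) :
    (tv hG u : Matrix (Fin p) (Fin p) F) = 1 + nu G u := rfl

theorem tv_mem {G : Matrix (Fin p) (Fin p) F} (hG : Alt G) (u : Fin p → F) : tv hG u ∈ isoG G := by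
  rw [mem_isoG, tv_val, Matrix.transpose_add, Matrix.transpose_one]
  have h1 : (nu G u)ᵀ * G = -(G * nu G u) := by
    have h2 := nu_transpose (G := G) (s := -1) (by rw [hG.transpose, neg_smul, one_smul]) u
    rw [neg_smul, one_smul] at h2
    exact h2
  rw [add_mul, one_mul, h1, add_mul, mul_add, mul_one, neg_mul, mul_add, mul_one, Matrix.mul_assoc, hG.nu_sq,
    Matrix.mul_zero]
  abel

theorem kr_mem_isoG {G₁ : Matrix (Fin p) (Fin p) F} {G₂ : Matrix (Fin q) (Fin q) F} {a : GL (Fin p) F}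
    {b : GL (Fin q) F} (ha : a ∈ isoG G₁) (hb : b ∈ isoG G₂) : kr a b ∈ isoG (G₁ ⊗ₖ G₂) := by
  rw [mem_isoG, kr_val, ← Matrix.kroneckerMap_transpose]
  rw [mem_isoG] at ha hb
  rw [← Matrix.mul_kronecker_mul, ← Matrix.mul_kronecker_mul, ha, hb]

end alt

section main

variable {F : Type*} [Field F] {p q : ℕ} {G₁ : Matrix (Fin p) (Fin p) F} {G₂ : Matrix (Fin q) (Fin q) F}
  {N : Matrix (Fin p) (Fin p) F} {E : Matrix (Fin q) (Fin q) F} (D : Dat G₁ G₂ N E)

include D

theorem Dat.x_mem : D.x ∈ isoG (G₁ ⊗ₖ G₂) := by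
  rw [mem_isoG, D.x_val, Matrix.transpose_add, Matrix.transpose_one, ← Matrix.kroneckerMap_transpose, add_mul, one_mul,
    ← Matrix.mul_kronecker_mul, D.NG, D.EG, mul_add, mul_one, add_mul, ← Matrix.mul_kronecker_mul,
    ← Matrix.mul_kronecker_mul, neg_mul, Matrix.mul_assoc, D.N2, Matrix.mul_zero, neg_zero, Matrix.zero_kronecker,
    add_zero]
  have h1 : (-(G₁ * N)) ⊗ₖ (G₂ * E) = -((G₁ * N) ⊗ₖ (G₂ * E)) := by
    ext i j
    simp [Matrix.kroneckerMap_apply]
  rw [h1]
  abel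

/-- the reflection -/
def Dat.r (D : Dat G₁ G₂ N E) : GL (Fin q) F where
  val := 1 - (2 : F) • E
  inv := 1 - (2 : F) • E
  val_inv := by
    rw [mul_sub, mul_one, sub_mul, one_mul, Matrix.mul_smul, Matrix.smul_mul, D.E2, smul_smul]
    have : (2 * 2 : F) • E = (2 : F) • E + (2 : F) • E := by rw [← add_smul]; congr 1; norm_num
    rw [this]
    abel
  inv_val := by
    rw [mul_sub, mul_one, sub_mul, one_mul, Matrix.mul_smul, Matrix.smul_mul, D.E2, smul_smul]
    have : (2 * 2 : F) • E = (2 : F) • E + (2 : F) • E := by rw [← add_smul]; congr 1; norm_num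
    rw [this]
    abel

omit D in
theorem Dat.r_val (D : Dat G₁ G₂ N E) : (D.r : Matrix (Fin q) (Fin q) F) = 1 - (2 : F) • E := rfl

theorem Dat.r_mem : D.r ∈ isoG G₂ := by
  rw [mem_isoG, D.r_val, Matrix.transpose_sub, Matrix.transpose_one, Matrix.transpose_smul, sub_mul, one_mul,
    Matrix.smul_mul, D.EG, mul_sub, mul_one, sub_mul, Matrix.smul_mul, Matrix.mul_smul, Matrix.mul_smul,
    Matrix.mul_assoc, D.E2, smul_smul]
  have : (2 * 2 : F) • (G₂ * E) = (2 : F) • (G₂ * E) + (2 : F) • (G₂ * E) := by rw [← add_smul]; congr 1; norm_num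
  rw [this]
  abel

theorem Dat.E_ne (h2 : (2 : F) ≠ 0) {c : F} : 1 - (2 : F) • E ≠ c • (1 : Matrix (Fin q) (Fin q) F) := by
  intro h
  have : Nonempty (Fin q) := ⟨⟨0, D.q0⟩⟩
  have h1 : E = ((2 : F)⁻¹ * (1 - c)) • (1 : Matrix (Fin q) (Fin q) F) := by
    rw [mul_smul, sub_smul, ← h, one_smul, sub_sub_cancel, smul_smul, inv_mul_cancel₀ h2, one_smul]
  set d := (2 : F)⁻¹ * (1 - c) with hd
  have h3 := D.E2
  rw [h1, Matrix.smul_mul, Matrix.one_mul, smul_smul, ← sub_eq_zero, ← sub_smul] at h3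
  rcases smul_eq_zero.1 h3 with h4 | h4
  · have h5 : d * (d - 1) = 0 := by rw [mul_sub, mul_one]; exact h4
    rcases mul_eq_zero.1 h5 with h6 | h6
    · apply D.E0
      rw [h1, h6, zero_smul]
    · have h7 : E = 1 := by rw [h1, sub_eq_zero.1 h6, one_smul]
      apply D.big 1
      rw [h7, sub_self, Matrix.zero_mul, Matrix.zero_mul]
  · exact one_ne_zero h4

/-- elements of the tensor product group commuting with `x` -/
theorem Dat.commute_x {a : GL (Fin p) F} {b : GL (Fin q) F}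
    (ha : (a : Matrix (Fin p) (Fin p) F) * N = N * (a : Matrix (Fin p) (Fin p) F))
    (hb : (b : Matrix (Fin q) (Fin q) F) * E = E * (b : Matrix (Fin q) (Fin q) F)) : kr a b * D.x = D.x * kr a b := by
  apply Units.ext
  rw [Units.val_mul, Units.val_mul, D.x_val, kr_val, mul_add, add_mul, mul_one, one_mul, ← Matrix.mul_kronecker_mul,
    ← Matrix.mul_kronecker_mul, ha, hb]

/-- **the kill** -/
theorem Dat.false {Q : Type*} [Group Q] [Finite Q] {A : Subgroup Q} {Γ : Subgroup (MulAut Q)} (h : EPT A Γ)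
    (m : Model Q (isoG (G₁ ⊗ₖ G₂))) (hA : m.hat A ≤ kroneckerSubgroup p q F) (h2 : (2 : F) ≠ 0) (hG : Alt G₁)
    {v : Fin p → F} (hv : v ≠ 0) (hN : N = nu G₁ v) : False := by
  obtain ⟨y, hy⟩ : ∃ y, fo G₁ y v ≠ 0 := by
    by_contra hcon
    push Not at hcon
    apply hv
    apply hG.nd
    intro y
    rw [hG.skew, hcon y, neg_zero]
  have hone : (1 : GL (Fin q) F) ∈ isoG G₂ := one_mem _
  have hone' : (1 : GL (Fin p) F) ∈ isoG G₁ := one_mem _
  -- `a₀`
  have ha₀x : kr (tv hG y) 1 ∉ cj D.x (kroneckerSubgroup p q F) := by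
    intro hcon
    have h1 := (D.comm hcon).1
    rw [tv_val, hN, mul_add, add_mul, mul_one, one_mul] at h1
    have h3 := congrArg (fun Z => Z *ᵥ v) (add_left_cancel h1)
    simp only [nu_mul] at h3
    rw [hG.alt, zero_mul, zero_smul] at h3
    have h4 : fo G₁ v y * fo G₁ y v ≠ 0 := by
      rw [hG.skew v y]
      exact mul_ne_zero (neg_ne_zero.2 hy) hy
    exact (smul_ne_zero h4 hv) h3.symm
  have hnle : ¬ isoG (G₁ ⊗ₖ G₂) ≤ kroneckerSubgroup p q F := by
    intro hle
    apply ha₀x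
    rw [cj_eq_self (hle D.x_mem)]
    exact kr_mem _ _
  have hhat := hat_eq h m hA hnle
  have hmem : ∀ {a : GL (Fin p) F} {b : GL (Fin q) F}, a ∈ isoG G₁ → b ∈ isoG G₂ → kr a b ∈ m.hat A := by
    intro a b ha hb
    rw [hhat]
    exact ⟨kr_mem _ _, kr_mem_isoG ha hb⟩
  have hmem2 : ∀ {a : GL (Fin p) F} {b : GL (Fin q) F}, a ∈ isoG G₁ → b ∈ isoG G₂ →
      (a : Matrix (Fin p) (Fin p) F) * N = N * (a : Matrix (Fin p) (Fin p) F) →
      (b : Matrix (Fin q) (Fin q) F) * E = E * (b : Matrix (Fin q) (Fin q) F) →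
      kr a b ∈ m.hat A ⊓ cj D.x (m.hat A) := by
    intro a b ha hb ha' hb'
    refine ⟨hmem ha hb, mem_cj.2 ?_⟩
    rw [mul_assoc, D.commute_x ha' hb', inv_mul_cancel_left]
    exact hmem ha hb
  have hdec : ∀ z ∈ m.hat A ⊓ cj D.x (m.hat A), ∃ (a : GL (Fin p) F) (b : GL (Fin q) F), z = kr a b ∧
      (a : Matrix (Fin p) (Fin p) F) * N = N * (a : Matrix (Fin p) (Fin p) F) ∧
      (b : Matrix (Fin q) (Fin q) F) * E = E * (b : Matrix (Fin q) (Fin q) F) := by
    intro z hz
    obtain ⟨a, b, rfl⟩ := exists_kr (hA (mem_inf.1 hz).1)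
    exact ⟨a, b, rfl, D.comm (cj_mono hA (mem_inf.1 hz).2)⟩
  refine kill_two h m D.x_mem (z₀ := kr 1 D.r) (a₀ := kr (tv hG y) 1) ?_ ?_ ?_ ?_ (hmem (tv_mem hG y) hone)
    (fun hcon => ha₀x (cj_mono hA hcon)) ?_
  · refine hmem2 hone' D.r_mem (by rw [Units.val_one, one_mul, mul_one]) ?_
    rw [D.r_val, mul_sub, sub_mul, mul_one, one_mul, Matrix.mul_smul, Matrix.smul_mul]
  · rw [mem_scalars_iff]
    rintro ⟨c, hc⟩
    rw [kr_val, D.r_val, Units.val_one, ← Matrix.one_kronecker_one, ← Matrix.kronecker_smul] at hc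
    have : Nonempty (Fin p) := ⟨⟨0, D.p0⟩⟩
    exact D.E_ne h2 (kron_cancel hc one_ne_zero)
  · rw [mem_scalars_iff]
    refine ⟨1, ?_⟩
    rw [Units.val_mul, kr_val, ← Matrix.mul_kronecker_mul, ← Units.val_mul, ← Units.val_mul]
    have h1 : D.r * D.r = 1 := Units.ext D.r.val_inv
    rw [h1, one_mul, Units.val_one, Units.val_one, Matrix.one_kronecker_one, Units.val_one, one_smul]
  · intro z hz
    obtain ⟨a, b, rfl, -, hb⟩ := hdec z hz
    apply Units.ext
    rw [Units.val_mul, Units.val_mul, kr_val, kr_val, ← Matrix.mul_kronecker_mul, ← Matrix.mul_kronecker_mul,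
      Units.val_one, one_mul, mul_one, D.r_val, sub_mul, mul_sub, one_mul, mul_one, Matrix.smul_mul, Matrix.mul_smul,
      hb]
  · intro z hz hzz hzc
    obtain ⟨a, b, rfl, ha, hb⟩ := hdec z hz
    have hbne := gl_ne_zero D.q0 b
    obtain ⟨s, hs⟩ : ∃ s : F, (a : Matrix (Fin p) (Fin p) F) * (a : Matrix (Fin p) (Fin p) F) =
        s • (1 : Matrix (Fin p) (Fin p) F) := by
      obtain ⟨c, hc⟩ := (mem_scalars_iff _).1 hzz
      rw [Units.val_mul, kr_val, ← Matrix.mul_kronecker_mul, ← Matrix.one_kronecker_one, ← Matrix.kronecker_smul] at hc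
      refine kron_eq hc ?_
      rw [← Units.val_mul]
      exact gl_ne_zero D.q0 _
    obtain ⟨c, hc⟩ := hG.scalar_of_comm h2 hv a.isUnit hs (by
      intro u hu
      rcases eq_or_ne u 0 with rfl | hu0
      · have : nu G₁ 0 = 0 := by
          unfold nu
          rw [Matrix.zero_vecMulVec]
        rw [this, Matrix.mul_zero, Matrix.zero_mul]
      have hu' : fo G₁ u v = 0 := by rw [hG.skew, hu, neg_zero]
      obtain ⟨t, ht, e⟩ := hzc (kr (tv hG u) 1) (hmem2 (tv_mem hG u) hone (by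
        rw [tv_val, hN, mul_add, add_mul, one_mul, mul_one, nu_mul_nu G₁ hu, nu_mul_nu G₁ hu']) (by
        rw [Units.val_one, one_mul, mul_one]))
      obtain ⟨d, hd⟩ := (mem_scalars_iff _).1 ht
      have h3 := congrArg Units.val e
      rw [Units.val_mul, Units.val_mul, Units.val_mul, hd, kr_val, kr_val, ← Matrix.mul_kronecker_mul,
        ← Matrix.mul_kronecker_mul, Units.val_one, mul_one, one_mul, Matrix.mul_smul, Matrix.mul_one,
        ← Matrix.smul_kronecker] at h3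
      obtain ⟨d', hd'⟩ := kron_eq h3 hbne
      rw [smul_smul, tv_val] at hd'
      exact comm_of_smul a.isUnit (hG.nu_sq u) (hG.nu_ne hu0) hd')
    apply Units.ext
    rw [Units.val_mul, Units.val_mul, kr_val, kr_val, ← Matrix.mul_kronecker_mul, ← Matrix.mul_kronecker_mul,
      Units.val_one, one_mul, mul_one, hc, Matrix.mul_smul, Matrix.smul_mul, Matrix.mul_one, Matrix.one_mul]

end main

section final

variable {F : Type*} [Field F]

/-- a bilinear form is given by its Gram matrix -/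
theorem fo_gram {n : ℕ} {f : (Fin n → F) → (Fin n → F) → F} (hf : IsBilinearForm f) (x y : Fin n → F) :
    fo (gramMatrix f) x y = f x y := by
  have hsumL : ∀ (s : Finset (Fin n)) (c : Fin n → F) (e : Fin n → (Fin n → F)) (v : Fin n → F),
      f (∑ i ∈ s, c i • e i) v = ∑ i ∈ s, c i * f (e i) v := by
    intro s c e v
    induction s using Finset.induction_on with
    | empty =>
      rw [Finset.sum_empty, Finset.sum_empty]
      have := hf.smul_left 0 0 v
      simpa using this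
    | insert a s ha ih => rw [Finset.sum_insert ha, Finset.sum_insert ha, hf.add_left, hf.smul_left, ih]
  have hsumR : ∀ (s : Finset (Fin n)) (c : Fin n → F) (e : Fin n → (Fin n → F)) (v : Fin n → F),
      f v (∑ i ∈ s, c i • e i) = ∑ i ∈ s, c i * f v (e i) := by
    intro s c e v
    induction s using Finset.induction_on with
    | empty =>
      rw [Finset.sum_empty, Finset.sum_empty]
      have := hf.smul_right 0 v 0
      simpa using this
    | insert a s ha ih => rw [Finset.sum_insert ha, Finset.sum_insert ha, hf.add_right, hf.smul_right, ih]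
  have hx : ∀ x : Fin n → F, x = ∑ i, x i • (Pi.single i (1 : F) : Fin n → F) := by
    intro x
    funext j
    simp [Finset.sum_apply, Pi.single_apply]
  conv_rhs => rw [hx x, hx y]
  rw [hsumL]
  unfold fo gramMatrix dotProduct Matrix.mulVec dotProduct
  refine Finset.sum_congr rfl fun i _ => ?_
  rw [hsumR]
  congr 1
  refine Finset.sum_congr rfl fun j _ => ?_
  rw [mul_comm]

theorem alt_gram {n : ℕ} {f : (Fin n → F) → (Fin n → F) → F} (hf : IsSymplecticForm f) : Alt (gramMatrix f) := by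
  refine ⟨fun x => by rw [fo_gram hf.bilinear, hf.alternating], fun x hx => ?_⟩
  by_contra hne
  obtain ⟨y, hy⟩ := (hf.nondegenerate x hne).2
  exact hy (by rw [← fo_gram hf.bilinear]; exact hx y)

theorem two_ne_zero_of_odd [Fintype F] (h : Odd (Fintype.card F)) : (2 : F) ≠ 0 := by
  intro h2
  have h3 : CharP F 2 := CharTwo.of_one_ne_zero_of_two_eq_zero one_ne_zero h2
  obtain ⟨k, -, hk⟩ := FiniteField.card F 2
  rw [hk] at h
  exact absurd h (by
    rw [Nat.not_odd_iff_even]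
    exact (even_two).pow_of_ne_zero k.ne_zero)

/-- the data for `f₁` symplectic, `f₂` symmetric -/
theorem exists_dat {n₁ n₂ : ℕ} (h2 : (2 : F) ≠ 0) {f₁ : (Fin n₁ → F) → (Fin n₁ → F) → F}
    {f₂ : (Fin n₂ → F) → (Fin n₂ → F) → F} (hn₁ : 0 < n₁) (hn₂ : 3 ≤ n₂) (hf₁ : IsSymplecticForm f₁)
    (hf₂ : IsSymmetricForm f₂) : ∃ (v : Fin n₁ → F) (E : Matrix (Fin n₂) (Fin n₂) F), v ≠ 0 ∧
      Dat (gramMatrix f₁) (gramMatrix f₂) (nu (gramMatrix f₁) v) E := by
  have hA := alt_gram hf₁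
  set G₁ := gramMatrix f₁
  set G₂ := gramMatrix f₂ with hG₂
  have hG₂s : G₂ᵀ = (1 : F) • G₂ := by
    rw [one_smul]
    ext i j
    rw [Matrix.transpose_apply, hG₂]
    exact hf₂.symm _ _
  have hfo : ∀ x y, fo G₂ x y = f₂ x y := fun x y => fo_gram hf₂.bilinear x y
  -- a nonsingular vector
  obtain ⟨w, hw⟩ : ∃ w, fo G₂ w w ≠ 0 := by
    by_contra hcon
    push Not at hcon
    have : Nonempty (Fin n₂) := ⟨⟨0, by omega⟩⟩
    have h1 : ∀ x y, f₂ x y = 0 := by
      intro x y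
      have h3 := hcon (x + y)
      rw [fo_add_left, fo_add_right, fo_add_right, hcon x, hcon y, hfo, hfo, hf₂.symm y x] at h3
      have h4 : 2 * f₂ x y = 0 := by rw [← h3]; ring
      exact (mul_eq_zero.1 h4).resolve_left h2
    have hne : (fun _ : Fin n₂ => (1 : F)) ≠ 0 := by
      intro e
      exact one_ne_zero (congrFun e ⟨0, by omega⟩)
    obtain ⟨x, hx⟩ := (hf₂.nondegenerate _ hne).1
    exact hx (h1 _ _)
  have hw0 : w ≠ 0 := by
    rintro rfl
    exact hw (fo_zero_left G₂ 0)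
  obtain ⟨v, hv⟩ : ∃ v : Fin n₁ → F, v ≠ 0 := ⟨fun _ => 1, fun e => one_ne_zero (congrFun e ⟨0, hn₁⟩)⟩
  refine ⟨v, (fo G₂ w w)⁻¹ • nu G₂ w, hv, ⟨hn₁, by omega, hA.nu_sq v, hA.nu_ne hv, ?_, ?_, ?_, ?_, ?_⟩⟩
  · have h3 := nu_transpose (G := G₁) (s := -1) (by rw [hA.transpose, neg_smul, one_smul]) v
    rw [neg_smul, one_smul] at h3
    exact h3
  · rw [Matrix.smul_mul, Matrix.mul_smul, smul_smul]
    apply mat_ext
    intro z
    rw [Matrix.smul_mulVec, Matrix.smul_mulVec, nu_mul, nu_mulVec, smul_smul, smul_smul]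
    congr 1
    field_simp
  · intro e
    have h3 := congrArg (fun Z => Z *ᵥ w) e
    simp only [Matrix.smul_mulVec, nu_mulVec, Matrix.zero_mulVec, smul_smul] at h3
    rw [inv_mul_cancel₀ hw, one_smul] at h3
    exact hw0 h3
  · rw [Matrix.transpose_smul, Matrix.smul_mul, nu_transpose hG₂s, one_smul, Matrix.mul_smul]
  · intro b hb
    set Em := (fo G₂ w w)⁻¹ • nu G₂ w with hEm
    obtain ⟨z, hz0, hz1, hz2⟩ := exists_ortho_two hn₂ (G₂ *ᵥ w) ((b : Matrix (Fin n₂) (Fin n₂) F)ᵀ *ᵥ (G₂ *ᵥ w))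
    have hE : ∀ y, fo G₂ y w = 0 → (1 - Em) *ᵥ y = y := by
      intro y hy
      rw [Matrix.sub_mulVec, Matrix.one_mulVec, hEm, Matrix.smul_mulVec, nu_mulVec, hy, zero_smul, smul_zero, sub_zero]
    have h3 : fo G₂ z w = 0 := by
      unfold fo
      rw [dotProduct_comm]
      exact hz1
    have h4 : fo G₂ ((b : Matrix (Fin n₂) (Fin n₂) F) *ᵥ z) w = 0 := by
      unfold fo
      rw [dotProduct_comm, Matrix.dotProduct_mulVec, ← Matrix.mulVec_transpose]
      exact hz2
    have h5 := congrArg (fun Z => Z *ᵥ z) hb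
    simp only [← Matrix.mulVec_mulVec, Matrix.zero_mulVec] at h5
    rw [hE z h3, hE _ h4] at h5
    apply hz0
    have h6 := congrArg (fun y => ((b⁻¹ : GL (Fin n₂) F) : Matrix (Fin n₂) (Fin n₂) F) *ᵥ y) h5
    simp only [Matrix.mulVec_mulVec, Matrix.mulVec_zero] at h6
    rw [← Units.val_mul, inv_mul_cancel, Units.val_one, Matrix.one_mulVec] at h6
    exact h6

/-- **Row `Sp`, class C4.** -/
theorem spC4 : Cfsg.Agent.H111.EP.SpC4 := by
  intro Q _ _ hs A Γ h F _ _ k m hk hq hodd n₁ n₂ e P f₁ f₂ hn₂ hf₁ hf₂ hst hA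
  have h2 := two_ne_zero_of_odd hodd
  have hn₁ : 0 < n₁ := by
    rcases Nat.eq_zero_or_pos n₁ with rfl | h1
    · exfalso
      have h3 := Fintype.card_congr e
      simp at h3
      omega
    · exact h1
  obtain ⟨c, hc, hf⟩ := hst
  obtain ⟨m', hm'⟩ := exists_model m e P (gramMatrix f₁ ⊗ₖ gramMatrix f₂) hc (by
    intro x y
    rw [hf x y]
    congr 1
    unfold formOfGram dotProduct Matrix.mulVec dotProduct
    refine Finset.sum_congr rfl fun i _ => ?_
    rw [Finset.mul_sum]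
    refine Finset.sum_congr rfl fun j _ => ?_
    rw [id, mul_assoc])
  obtain ⟨v, E, hv, D⟩ := exists_dat h2 hn₁ hn₂ hf₁ hf₂
  refine D.false h m' ?_ h2 (alt_gram hf₁) hv rfl
  intro g hg
  have h3 := hA ((hm' A g).1 hg)
  obtain ⟨_, ⟨g', hg', rfl⟩, h4⟩ := h3
  have h5 : frame e P g' = frame e P g := h4
  rwa [← (frame e P).injective h5]

end final

end Cfsg.Agent.H663.EP
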