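import Cfsg.Agent.H663.EP.C7Swap
import Cfsg.Agent.H663.EP.SpC4

/-!
# S3499: the tensor power subgroups of `Sp` (helper663), row `SpC7`
-/

set_option autoImplicit false
set_option linter.unusedSectionVars false

namespace Cfsg.Agent.H663.EP

open Matrix Cfsg.Geo Cfsg.Agent.H889 Cfsg.Agent.H284 Cfsg.Agent.H419.EP
open scoped MatrixGroups

variable {F : Type*} [Field F] {k t : ℕ} {G₁ : Matrix (Fin k) (Fin k) F}

/-- the element `a` in the slot `o` -/
def sl (o : Fin t) (a : GL (Fin k) F) : GL (Fin t → Fin k) F := pmGL (Function.update (fun _ => 1) o a)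

theorem sl_tp (o : Fin t) (a : GL (Fin k) F) (xs : Fin t → (Fin k → F)) :
    (sl o a : Matrix (Fin t → Fin k) (Fin t → Fin k) F) *ᵥ tp xs =
      tp (Function.update xs o ((a : Matrix (Fin k) (Fin k) F) *ᵥ xs o)) := by
  unfold sl
  change pm (fun i => (Function.update (fun _ => (1 : GL (Fin k) F)) o a i).val) *ᵥ tp xs = _
  rw [pm_mulVec]
  congr 1
  funext j
  by_cases h : j = o
  · subst h
    rw [Function.update_self, Function.update_self]
  · rw [Function.update_of_ne h, Function.update_of_ne h, Units.val_one, Matrix.one_mulVec]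

theorem sl_mem (o : Fin t) (a : GL (Fin k) F) : sl o a ∈ tensorWreathStandard k t F := pmGL_mem _

theorem sl_iso {a : GL (Fin k) F} (ha : a ∈ isoG G₁) (o : Fin t) : sl o a ∈ isoG (GG G₁ t) := by
  apply mem_isoG_of_tp
  intro xs ys
  rw [sl_tp, sl_tp, fo_tp, fo_tp]
  refine Finset.prod_congr rfl fun i _ => ?_
  by_cases hi : i = o
  · subst hi
    rw [Function.update_self, Function.update_self, fo_isoG ha]
  · rw [Function.update_of_ne hi, Function.update_of_ne hi]

theorem sl_inv (o : Fin t) (a : GL (Fin k) F) : (sl o a)⁻¹ = sl o a⁻¹ := by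
  apply inv_eq_of_mul_eq_one_right
  apply gl_eq_of_tp
  intro xs
  rw [Units.val_mul, ← Matrix.mulVec_mulVec, sl_tp, sl_tp, Function.update_self, Function.update_idem,
    Matrix.mulVec_mulVec, ← Units.val_mul, mul_inv_cancel, Units.val_one, Matrix.one_mulVec,
    Function.update_eq_self, Units.val_one, Matrix.one_mulVec]

theorem lam_congr {v : Fin k → F} {α β : Fin t} {ys ys' : Fin t → (Fin k → F)} (h1 : ys α = ys' α)
    (h2 : ys β = ys' β) (h3 : ∀ j, j ≠ α → j ≠ β → fo G₁ v (ys j) = fo G₁ v (ys' j)) :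
    lam G₁ v α β ys = lam G₁ v α β ys' := by
  unfold lam
  rw [h1, h2]
  congr 1
  refine Finset.prod_congr rfl fun j hj => ?_
  rw [Finset.mem_erase, Finset.mem_erase] at hj
  exact h3 j hj.2.1 hj.1

theorem lam_ne_zero {v : Fin k → F} {α β : Fin t} {ys : Fin t → (Fin k → F)} (h1 : fo G₁ (ys α) (ys β) ≠ 0)
    (h3 : ∀ j, j ≠ α → j ≠ β → fo G₁ v (ys j) ≠ 0) : lam G₁ v α β ys ≠ 0 := by
  unfold lam
  refine mul_ne_zero h1 (Finset.prod_ne_zero_iff.2 fun j hj => ?_)
  rw [Finset.mem_erase, Finset.mem_erase] at hj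
  exact h3 j hj.2.1 hj.1

theorem fo_sl_DD (hG₁ : Alt G₁) {a : GL (Fin k) F} (ha : a ∈ isoG G₁) (v : Fin k → F)
    {α β o : Fin t} (hαβ : α ≠ β) (ys : Fin t → (Fin k → F)) :
    fo (GG G₁ t) ((sl o a : Matrix (Fin t → Fin k) (Fin t → Fin k) F) *ᵥ DD G₁ v α β) (tp ys) =
      lam G₁ v α β (Function.update ys o (((a⁻¹ : GL (Fin k) F) : Matrix (Fin k) (Fin k) F) *ᵥ ys o)) := by
  rw [fo_isoG_left (sl_iso ha o), sl_inv, sl_tp, fo_DD hG₁ v hαβ]

theorem sl_DD (hG₁ : Alt G₁) (hG : Alt (GG G₁ t)) {a : GL (Fin k) F} (ha : a ∈ isoG G₁) {v : Fin k → F}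
    (hav : (a : Matrix (Fin k) (Fin k) F) *ᵥ v = v) {α β o : Fin t} (hαβ : α ≠ β) (hoα : o ≠ α) (hoβ : o ≠ β) :
    (sl o a : Matrix (Fin t → Fin k) (Fin t → Fin k) F) *ᵥ DD G₁ v α β = DD G₁ v α β := by
  apply eq_of_tp hG
  intro ys
  rw [fo_sl_DD hG₁ ha v hαβ, fo_DD hG₁ v hαβ]
  apply lam_congr
  · rw [Function.update_of_ne (Ne.symm hoα)]
  · rw [Function.update_of_ne (Ne.symm hoβ)]
  · intro j _ _
    by_cases hj : j = o
    · subst hj
      rw [Function.update_self, ← fo_isoG_left ha, hav]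
    · rw [Function.update_of_ne hj]

theorem sl_comm (hG₁ : Alt G₁) (hG : Alt (GG G₁ t)) {a : GL (Fin k) F} (ha : a ∈ isoG G₁) {v : Fin k → F}
    (hav : (a : Matrix (Fin k) (Fin k) F) *ᵥ v = v) {α β o : Fin t} (hαβ : α ≠ β) (hoα : o ≠ α) (hoβ : o ≠ β) :
    sl o a * tvG hG (DD G₁ v α β) = tvG hG (DD G₁ v α β) * sl o a := by
  rw [mul_tvG hG (sl_iso ha o), sl_DD hG₁ hG ha hav hαβ hoα hoβ]

/-- cancelling the other slots -/
theorem tp_cancel {A B : Fin t → (Fin k → F)} (hA : ∀ i, A i ≠ 0) (o : Fin t) (c : F) :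
    ∃ s : F, ∀ x y : Fin k → F, tp (Function.update A o x) = c • tp (Function.update B o y) → x = s • y := by
  have h1 : ∀ i, ∃ j, A i j ≠ 0 := fun i => Function.ne_iff.1 (hA i)
  choose a ha using h1
  have key : ∀ (C : Fin t → (Fin k → F)) (x : Fin k → F) (j : Fin k),
      tp (Function.update C o x) (Function.update a o j) = x j * ∏ i ∈ Finset.univ.erase o, C i (a i) := by
    intro C x j
    rw [tp_apply, ← Finset.mul_prod_erase Finset.univ _ (Finset.mem_univ o), Function.update_self,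
      Function.update_self]
    congr 1
    refine Finset.prod_congr rfl fun i hi => ?_
    rw [Function.update_of_ne (Finset.ne_of_mem_erase hi), Function.update_of_ne (Finset.ne_of_mem_erase hi)]
  have h3 : ∏ i ∈ Finset.univ.erase o, A i (a i) ≠ 0 := Finset.prod_ne_zero_iff.2 fun i _ => ha i
  refine ⟨c * (∏ i ∈ Finset.univ.erase o, B i (a i)) * (∏ i ∈ Finset.univ.erase o, A i (a i))⁻¹, fun x y h => ?_⟩
  funext j
  have h4 := congrFun h (Function.update a o j)
  rw [Pi.smul_apply, key, key, smul_eq_mul] at h4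
  rw [Pi.smul_apply, smul_eq_mul]
  field_simp
  rw [h4]
  ring

/-- **elements centralising the stabiliser of `v` in the slot `o`** -/
theorem slot_scalar (h2 : (2 : F) ≠ 0) (hG₁ : Alt G₁) {v : Fin k → F} (hv : v ≠ 0) {o : Fin t}
    {z : GL (Fin t → Fin k) F} (hzM : z ∈ tensorWreathStandard k t F) (hzz : z * z ∈ scalars (Fin t → Fin k) F)
    (hc : ∀ u, fo G₁ v u = 0 → ∃ s ∈ scalars (Fin t → Fin k) F,
      z * sl o (tvG hG₁ u) = sl o (tvG hG₁ u) * z * s) (a : GL (Fin k) F) : sl o a * z = z * sl o a := by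
  obtain ⟨gs, σ, hmon⟩ := exists_isMonomialOn hzM
  obtain ⟨r, hr⟩ := hG₁.exists_ne hv
  have hrr : fo G₁ r v ≠ 0 := by rw [hG₁.skew]; exact neg_ne_zero.2 hr
  -- the relation on pure tensors
  have hrel : ∀ u, fo G₁ v u = 0 → ∃ c : F, c ≠ 0 ∧ ∀ xs : Fin t → (Fin k → F),
      tp (fun i => (gs i).val *ᵥ Function.update xs o ((tvG hG₁ u : Matrix (Fin k) (Fin k) F) *ᵥ xs o) (σ i)) =
        c • tp (Function.update (fun i => (gs i).val *ᵥ xs (σ i)) o
          ((tvG hG₁ u : Matrix (Fin k) (Fin k) F) *ᵥ ((gs o).val *ᵥ xs (σ o)))) := by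
    intro u hu
    obtain ⟨s, hs, e⟩ := hc u hu
    obtain ⟨c, hsc⟩ := (mem_scalars_iff _).1 hs
    refine ⟨c, c.ne_zero, fun xs => ?_⟩
    have h1 := congrArg (fun g : GL (Fin t → Fin k) F =>
      (g : Matrix (Fin t → Fin k) (Fin t → Fin k) F) *ᵥ tp xs) e
    simp only [Units.val_mul, ← Matrix.mulVec_mulVec] at h1
    rw [hsc, Matrix.smul_mulVec, Matrix.one_mulVec, Matrix.mulVec_smul, Matrix.mulVec_smul, sl_tp, hmon, hmon,
      sl_tp] at h1
    exact h1
  -- Claim 1
  have hσ : σ o = o := by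
    by_contra hne
    obtain ⟨c, hc0, h1⟩ := hrel v (hG₁.alt v)
    set xs : Fin t → (Fin k → F) := Function.update (fun _ => v) (σ o)
      ((((gs o)⁻¹ : GL (Fin k) F) : Matrix (Fin k) (Fin k) F) *ᵥ r) with hxs
    have hr0 : r ≠ 0 := Alt.ne_zero_right hr
    have hxs0 : ∀ i, xs i ≠ 0 := by
      intro i
      by_cases hi : i = σ o
      · rw [hi, hxs, Function.update_self]
        exact gl_mulVec_ne_zero _ hr0
      · rw [hxs, Function.update_of_ne hi]
        exact hv
    have hgo : (gs o).val *ᵥ xs (σ o) = r := by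
      rw [hxs, Function.update_self, Matrix.mulVec_mulVec, ← Units.val_mul, mul_inv_cancel, Units.val_one,
        Matrix.one_mulVec]
    choose ω hω using fun i => hG₁.exists_ne (gl_mulVec_ne_zero (gs i) (hxs0 (σ i)))
    have h3 := congrArg (fun z => fo (GG G₁ t) z (tp (Function.update ω o r))) (h1 xs)
    simp only [fo_smul_left, fo_tp] at h3
    have e1 : ∏ i, fo G₁ ((gs i).val *ᵥ Function.update xs o
        ((tvG hG₁ v : Matrix (Fin k) (Fin k) F) *ᵥ xs o) (σ i)) (Function.update ω o r i) = 0 := by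
      refine Finset.prod_eq_zero (Finset.mem_univ o) ?_
      rw [Function.update_of_ne hne, hgo, Function.update_self, hG₁.alt]
    rw [e1] at h3
    refine mul_ne_zero hc0 (Finset.prod_ne_zero_iff.2 fun i _ => ?_) h3.symm
    by_cases hi : i = o
    · rw [hi, Function.update_self, Function.update_self, hgo, tvG_mulVec, fo_add_left, hG₁.alt, zero_add,
        fo_smul_left]
      exact mul_ne_zero hrr hr
    · rw [Function.update_of_ne hi, Function.update_of_ne hi]
      exact hω i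
  have hσne : ∀ i, i ≠ o → σ i ≠ o := fun i hi e => hi (σ.injective (e.trans hσ.symm))
  -- the other slots
  have hfam : ∀ (x : Fin k → F), (fun i => (gs i).val *ᵥ Function.update (fun _ : Fin t => v) o x (σ i)) =
      Function.update (fun i => (gs i).val *ᵥ v) o ((gs o).val *ᵥ x) := by
    intro x
    funext i
    by_cases hi : i = o
    · subst hi
      rw [hσ, Function.update_self, Function.update_self]
    · rw [Function.update_of_ne hi, Function.update_of_ne (hσne i hi)]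
  have hA0 : ∀ i, (gs i).val *ᵥ v ≠ 0 := fun i => gl_mulVec_ne_zero (gs i) hv
  -- Claim 2
  have hcomm : ∀ u, fo G₁ v u = 0 → (gs o).val * nu G₁ u = nu G₁ u * (gs o).val := by
    intro u hu
    rcases eq_or_ne u 0 with rfl | hu0
    · have : nu G₁ 0 = 0 := by
        unfold nu
        rw [Matrix.zero_vecMulVec]
      rw [this, Matrix.mul_zero, Matrix.zero_mul]
    obtain ⟨c, hc0, h1⟩ := hrel u hu
    obtain ⟨s, hs⟩ := tp_cancel (B := fun i => (gs i).val *ᵥ v) hA0 o c
    refine comm_of_smul (c := s) (gs o).isUnit (hG₁.nu_sq u) (hG₁.nu_ne hu0) ?_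
    apply mat_ext
    intro x
    have h3 := h1 (Function.update (fun _ => v) o x)
    rw [Function.update_idem, Function.update_self, hfam, hfam, hσ, Function.update_self, Function.update_idem] at h3
    have h4 := hs _ _ h3
    rw [Matrix.smul_mulVec, ← Matrix.mulVec_mulVec, ← Matrix.mulVec_mulVec]
    rw [tvG_val] at h4
    exact h4
  -- Claim 3
  obtain ⟨s, hs⟩ : ∃ s : F, (gs o).val * (gs o).val = s • (1 : Matrix (Fin k) (Fin k) F) := by
    obtain ⟨c, hsc⟩ := (mem_scalars_iff _).1 hzz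
    obtain ⟨s, hs⟩ := tp_cancel (A := fun i => (gs i).val *ᵥ ((gs (σ i)).val *ᵥ v)) (B := fun _ => v)
      (fun i => gl_mulVec_ne_zero (gs i) (hA0 (σ i))) o (c : F)
    refine ⟨s, mat_ext fun x => ?_⟩
    rw [Matrix.smul_mulVec, Matrix.one_mulVec, ← Matrix.mulVec_mulVec]
    apply hs
    have h1 := congrArg (fun Z : Matrix (Fin t → Fin k) (Fin t → Fin k) F =>
      Z *ᵥ tp (Function.update (fun _ => v) o x)) hsc
    simp only [Units.val_mul, ← Matrix.mulVec_mulVec] at h1
    rw [Matrix.smul_mulVec, Matrix.one_mulVec, hmon, hfam, hmon] at h1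
    rw [← h1]
    congr 1
    funext i
    by_cases hi : i = o
    · subst hi
      rw [hσ, Function.update_self, Function.update_self]
    · rw [Function.update_of_ne hi, Function.update_of_ne (hσne i hi)]
  obtain ⟨c', hc'⟩ := hG₁.scalar_of_comm h2 hv (gs o).isUnit hs hcomm
  apply gl_eq_of_tp
  intro xs
  rw [Units.val_mul, Units.val_mul, ← Matrix.mulVec_mulVec, ← Matrix.mulVec_mulVec, sl_tp, hmon, hmon, sl_tp]
  congr 1
  funext i
  by_cases hi : i = o
  · subst hi
    rw [Function.update_self, hσ, Function.update_self, hc', Matrix.smul_mulVec, Matrix.smul_mulVec,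
      Matrix.one_mulVec, Matrix.one_mulVec, Matrix.mulVec_smul]
  · rw [Function.update_of_ne hi, Function.update_of_ne (hσne i hi)]

/-- **the kill** -/
theorem c7_false {Q : Type*} [Group Q] [Finite Q] {A : Subgroup Q} {Γ : Subgroup (MulAut Q)} (h : EPT A Γ)
    (m : Model Q (isoG (GG G₁ t))) (hA : m.hat A ≤ tensorWreathStandard k t F) (h2 : (2 : F) ≠ 0) (hG₁ : Alt G₁)
    (hG : Alt (GG G₁ t)) {v : Fin k → F} (hv : v ≠ 0) {o α β : Fin t} (hαβ : α ≠ β) (hoα : o ≠ α) (hoβ : o ≠ β) :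
    False := by
  obtain ⟨y₀, hy₀⟩ := hG₁.exists_ne hv
  have ha₀x : sl o (tvG hG₁ y₀) ∉ cj (tvG hG (DD G₁ v α β)) (tensorWreathStandard k t F) := by
    intro hcon
    have h1 := fix_of_cj h2 hG₁ hG hv hαβ hoα hoβ (sl_iso (tvG_mem hG₁ y₀) o) (sl_mem _ _) hcon
    obtain ⟨ys, -, -, hys⟩ := exists_lam_ne hG₁ hv hαβ hy₀
    obtain ⟨h3, h4⟩ := lam_ne hys
    have h5 := fo_sl_DD hG₁ (tvG_mem hG₁ y₀) v (o := o) hαβ (Function.update ys o v)
    rw [Function.update_self, Function.update_idem] at h5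
    have h6 : lam G₁ v α β (Function.update ys o v) = 0 := lam_zero_of hoα hoβ (by
      rw [Function.update_self, hG₁.alt])
    have h7 : lam G₁ v α β (Function.update ys o
        ((((tvG hG₁ y₀)⁻¹ : GL (Fin k) F) : Matrix (Fin k) (Fin k) F) *ᵥ v)) ≠ 0 := by
      apply lam_ne_zero
      · rw [Function.update_of_ne (Ne.symm hoα), Function.update_of_ne (Ne.symm hoβ)]
        exact h3
      · intro j hj1 hj2
        by_cases hj : j = o
        · subst hj
          rw [Function.update_self, tvG_inv_mulVec, fo_sub_right, hG₁.alt, zero_sub, fo_smul_right]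
          exact neg_ne_zero.2 (mul_ne_zero hy₀ hy₀)
        · rw [Function.update_of_ne hj]
          exact h4 j hj1 hj2
    apply h7
    rw [← h5]
    rcases h1 with h1 | h1
    · rw [h1, fo_DD hG₁ v hαβ, h6]
    · rw [h1, ← neg_one_smul F (DD G₁ v α β), fo_smul_left, fo_DD hG₁ v hαβ, h6, mul_zero]
  have hnle : ¬ isoG (GG G₁ t) ≤ tensorWreathStandard k t F := by
    intro hle
    apply ha₀x
    rw [cj_eq_self (hle (tvG_mem hG _))]
    exact sl_mem _ _
  have hhat := hat_eq h m hA hnle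
  have hmem : ∀ {y : GL (Fin t → Fin k) F}, y ∈ isoG (GG G₁ t) → y ∈ tensorWreathStandard k t F →
      y ∈ m.hat A := by
    intro y h1 h3
    rw [hhat]
    exact ⟨h3, h1⟩
  have hmem2 : ∀ {y : GL (Fin t → Fin k) F}, y ∈ isoG (GG G₁ t) → y ∈ tensorWreathStandard k t F →
      y * tvG hG (DD G₁ v α β) = tvG hG (DD G₁ v α β) * y →
      y ∈ m.hat A ⊓ cj (tvG hG (DD G₁ v α β)) (m.hat A) := by
    intro y h1 h3 h4
    refine ⟨hmem h1 h3, mem_cj.2 ?_⟩
    rw [mul_assoc, h4, inv_mul_cancel_left]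
    exact hmem h1 h3
  have hfix : ∀ y ∈ m.hat A ⊓ cj (tvG hG (DD G₁ v α β)) (m.hat A),
      (y : Matrix (Fin t → Fin k) (Fin t → Fin k) F) *ᵥ DD G₁ v α β = DD G₁ v α β ∨
        (y : Matrix (Fin t → Fin k) (Fin t → Fin k) F) *ᵥ DD G₁ v α β = -DD G₁ v α β := fun y hy =>
    fix_of_cj h2 hG₁ hG hv hαβ hoα hoβ (m.hat_le A (Subgroup.mem_inf.1 hy).1) (hA (Subgroup.mem_inf.1 hy).1)
      (cj_mono hA (Subgroup.mem_inf.1 hy).2)
  refine kill_two h m (tvG_mem hG _) (z₀ := swp F k α β) (a₀ := sl o (tvG hG₁ y₀))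
    (hmem2 (swp_iso _ _) (swp_mem _ _) (swp_comm hG₁ hG hαβ)) (swp_not_scalar hG₁ hv hαβ) ?_ ?_
    (hmem (sl_iso (tvG_mem hG₁ _) _) (sl_mem _ _)) (fun hcon => ha₀x (cj_mono hA hcon)) ?_
  · rw [swp_sq]
    exact one_mem _
  · intro y hy
    rcases hfix y hy with h1 | h1
    · exact swp_comm_of_fix hG₁ hG hv hαβ (m.hat_le A (Subgroup.mem_inf.1 hy).1) (hA (Subgroup.mem_inf.1 hy).1)
        (one_ne_zero (α := F)) (by rw [one_smul]; exact h1)
    · exact swp_comm_of_fix hG₁ hG hv hαβ (m.hat_le A (Subgroup.mem_inf.1 hy).1) (hA (Subgroup.mem_inf.1 hy).1)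
        (neg_ne_zero.2 (one_ne_zero (α := F))) (by rw [neg_smul, one_smul]; exact h1)
  · intro z hz hzz hzc
    refine slot_scalar h2 hG₁ hv (hA (Subgroup.mem_inf.1 hz).1) hzz (fun u hu => ?_) _
    refine hzc _ (hmem2 (sl_iso (tvG_mem hG₁ _) _) (sl_mem _ _) (sl_comm hG₁ hG (tvG_mem hG₁ _) ?_ hαβ hoα hoβ))
    rw [tvG_mulVec, hu, zero_smul, add_zero]

/-- **Row `Sp`, class C7.** -/
theorem spC7 : Cfsg.Agent.H111.EP.SpC7 := by
  intro Q _ _ hs A Γ h F _ _ k m hk hq hodd d t e P f₁ ht ht3 hne hf₁ hst hA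
  have h2 := two_ne_zero_of_odd hodd
  have hd : 0 < d := by
    rcases Nat.eq_zero_or_pos d with rfl | h1
    · exfalso
      have h3 := Fintype.card_congr e
      simp only [Fintype.card_sum, Fintype.card_fin, Fintype.card_fun] at h3
      rw [Nat.zero_pow (by omega)] at h3
      omega
    · exact h1
  have hG₁ := alt_gram hf₁
  obtain ⟨c, hc, hf⟩ := hst
  obtain ⟨m', hm'⟩ := exists_model m e P (GG (gramMatrix f₁) t) hc (by
    intro x y
    rw [hf x y]
    congr 1
    unfold dotProduct Matrix.mulVec dotProduct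
    refine Finset.sum_congr rfl fun i _ => ?_
    rw [Finset.mul_sum]
    refine Finset.sum_congr rfl fun j _ => ?_
    rw [id, mul_assoc]
    rfl)
  refine c7_false h m' ?_ h2 hG₁ (alt_GG h2 hG₁ ht) (v := fun _ => 1)
    (fun e => one_ne_zero (congrFun e ⟨0, hd⟩)) (o := ⟨0, by omega⟩) (α := ⟨1, by omega⟩) (β := ⟨2, by omega⟩)
    (by simp) (by simp) (by simp)
  intro g hg
  have h3 := hA ((hm' A g).1 hg)
  obtain ⟨_, ⟨g', hg', rfl⟩, h4⟩ := h3
  have h5 : frame e P g' = frame e P g := h4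
  rwa [← (frame e P).injective h5]

end Cfsg.Agent.H663.EP
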