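import Cfsg.Agent.H663.EP.SympVec
import Cfsg.Agent.H889.TensorPow

/-!
# S3499: tensor powers of a symplectic form (helper663)

`GG G₁ t` : the Gram matrix of the tensor power; `ev G₁ x ys = f(x, tp ys)`; the vector `DD` with
`f(DD, tp ys) = f₁(ys α, ys β) ∏_{j ≠ α, β} f₁(v, ys j)`; `not_tp` : `tp zs + c DD` is not a pure tensor.
-/

set_option autoImplicit false
set_option linter.unusedSectionVars false

namespace Cfsg.Agent.H663.EP

open Matrix Cfsg.Geo Cfsg.Agent.H889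
open scoped MatrixGroups

/-! ### transvections -/

section tv

variable {κ : Type} [Fintype κ] [DecidableEq κ] {F : Type*} [Field F] {G : Matrix κ κ F}

/-- the transvection `z ↦ z + f(z, u) u` -/
def tvG (hG : Alt G) (u : κ → F) : GL κ F where
  val := 1 + nu G u
  inv := 1 - nu G u
  val_inv := by
    rw [mul_sub, mul_one, add_mul, one_mul, hG.nu_sq, add_zero]
    abel
  inv_val := by
    rw [mul_add, mul_one, sub_mul, one_mul, hG.nu_sq, sub_zero]
    abel

theorem tvG_val (hG : Alt G) (u : κ → F) : (tvG hG u : Matrix κ κ F) = 1 + nu G u := rfl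

theorem tvG_inv_val (hG : Alt G) (u : κ → F) : (((tvG hG u)⁻¹ : GL κ F) : Matrix κ κ F) = 1 - nu G u := rfl

theorem tvG_mulVec (hG : Alt G) (u z : κ → F) : (tvG hG u : Matrix κ κ F) *ᵥ z = z + fo G z u • u := by
  rw [tvG_val, Matrix.add_mulVec, Matrix.one_mulVec, nu_mulVec]

theorem tvG_inv_mulVec (hG : Alt G) (u z : κ → F) :
    (((tvG hG u)⁻¹ : GL κ F) : Matrix κ κ F) *ᵥ z = z - fo G z u • u := by
  rw [tvG_inv_val, Matrix.sub_mulVec, Matrix.one_mulVec, nu_mulVec]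

theorem fo_isoG {g : GL κ F} (hg : g ∈ isoG G) (x y : κ → F) :
    fo G ((g : Matrix κ κ F) *ᵥ x) ((g : Matrix κ κ F) *ᵥ y) = fo G x y := mem_isoG_iff.1 hg x y

theorem fo_isoG_left {g : GL κ F} (hg : g ∈ isoG G) (x y : κ → F) :
    fo G ((g : Matrix κ κ F) *ᵥ x) y = fo G x (((g⁻¹ : GL κ F) : Matrix κ κ F) *ᵥ y) := by
  have h1 := fo_isoG hg x (((g⁻¹ : GL κ F) : Matrix κ κ F) *ᵥ y)
  rw [Matrix.mulVec_mulVec, ← Units.val_mul, mul_inv_cancel, Units.val_one, Matrix.one_mulVec] at h1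
  exact h1

theorem tvG_mem (hG : Alt G) (u : κ → F) : tvG hG u ∈ isoG G := by
  rw [mem_isoG_iff]
  intro x y
  change fo G _ _ = fo G x y
  rw [tvG_mulVec, tvG_mulVec, fo_add_left, fo_add_right, fo_add_right, fo_smul_left, fo_smul_left, fo_smul_right,
    fo_smul_right, hG.alt, hG.skew u y]
  ring

theorem gl_ext {g h : GL κ F} (e : ∀ z : κ → F, (g : Matrix κ κ F) *ᵥ z = (h : Matrix κ κ F) *ᵥ z) : g = h :=
  Units.ext (mat_ext e)

/-- `g T_u = T_{g u} g` -/
theorem mul_tvG (hG : Alt G) {g : GL κ F} (hg : g ∈ isoG G) (u : κ → F) :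
    g * tvG hG u = tvG hG ((g : Matrix κ κ F) *ᵥ u) * g := by
  apply gl_ext
  intro z
  rw [Units.val_mul, Units.val_mul, ← Matrix.mulVec_mulVec, ← Matrix.mulVec_mulVec, tvG_mulVec, tvG_mulVec,
    Matrix.mulVec_add, Matrix.mulVec_smul, fo_isoG hg]

theorem tvG_neg (hG : Alt G) (u : κ → F) : tvG hG (-u) = tvG hG u := by
  apply gl_ext
  intro z
  rw [tvG_mulVec, tvG_mulVec, show -u = (-1 : F) • u by rw [neg_smul, one_smul], fo_smul_right, smul_smul]
  congr 2
  ring

theorem Alt.exists_ne {G : Matrix κ κ F} (hG : Alt G) {v : κ → F} (hv : v ≠ 0) : ∃ y, fo G v y ≠ 0 := by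
  by_contra hcon
  push Not at hcon
  exact hv (hG.nd v hcon)

theorem Alt.ne_zero_left {G : Matrix κ κ F} {v y : κ → F} (h : fo G v y ≠ 0) : v ≠ 0 := by
  rintro rfl
  exact h (fo_zero_left G y)

theorem Alt.ne_zero_right {G : Matrix κ κ F} {v y : κ → F} (h : fo G v y ≠ 0) : y ≠ 0 := by
  rintro rfl
  exact h (fo_zero_right G v)

theorem gl_mulVec_ne_zero (g : GL κ F) {x : κ → F} (hx : x ≠ 0) : (g : Matrix κ κ F) *ᵥ x ≠ 0 := by
  intro h
  apply hx
  have h1 : ((g⁻¹ : GL κ F) : Matrix κ κ F) *ᵥ ((g : Matrix κ κ F) *ᵥ x) = x := by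
    rw [Matrix.mulVec_mulVec, ← Units.val_mul, inv_mul_cancel, Units.val_one, Matrix.one_mulVec]
  rw [← h1, h, Matrix.mulVec_zero]

end tv

section pow

variable {F : Type*} [Field F] {k t : ℕ}

theorem tp_dot (xs zs : Fin t → (Fin k → F)) : tp xs ⬝ᵥ tp zs = ∏ i, (xs i ⬝ᵥ zs i) := by
  simp only [dotProduct, tp_apply]
  rw [Finset.prod_univ_sum, Fintype.piFinset_univ]
  exact Finset.sum_congr rfl fun c _ => (Finset.prod_mul_distrib).symm

/-- the Gram matrix of the tensor power -/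
def GG (G₁ : Matrix (Fin k) (Fin k) F) (t : ℕ) : Matrix (Fin t → Fin k) (Fin t → Fin k) F := pm fun _ => G₁

theorem fo_tp (G₁ : Matrix (Fin k) (Fin k) F) (xs ys : Fin t → (Fin k → F)) :
    fo (GG G₁ t) (tp xs) (tp ys) = ∏ i, fo G₁ (xs i) (ys i) := by
  unfold fo GG
  rw [pm_mulVec, tp_dot]

/-- vectors are determined by the pairing with the pure tensors -/
theorem eq_of_tp {G : Matrix (Fin t → Fin k) (Fin t → Fin k) F} (hG : Alt G) {x x' : (Fin t → Fin k) → F}
    (h : ∀ ys, fo G x (tp ys) = fo G x' (tp ys)) : x = x' := by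
  rw [← sub_eq_zero]
  apply hG.nd
  have h1 : ∀ ys, fo G (x - x') (tp ys) = 0 := fun ys => by rw [fo_sub_left, h, sub_self]
  have h2 : (x - x') ᵥ* G = 0 := by
    funext a
    have h3 := h1 (fun i => Pi.single (a i) 1)
    rw [← single_eq_tp] at h3
    unfold fo at h3
    rw [Matrix.dotProduct_mulVec] at h3
    simpa using h3
  intro y
  unfold fo
  rw [Matrix.dotProduct_mulVec, h2, zero_dotProduct]

/-- a matrix is determined by the pairings of pure tensors -/
theorem gl_eq_of_tp {g h : GL (Fin t → Fin k) F}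
    (e : ∀ xs, (g : Matrix (Fin t → Fin k) (Fin t → Fin k) F) *ᵥ tp xs =
      (h : Matrix (Fin t → Fin k) (Fin t → Fin k) F) *ᵥ tp xs) : g = h :=
  Units.ext (matrix_ext_tp e)

/-- isometries can be checked on pure tensors -/
theorem mem_isoG_of_tp {G : Matrix (Fin t → Fin k) (Fin t → Fin k) F} {g : GL (Fin t → Fin k) F}
    (h : ∀ xs ys, fo G ((g : Matrix (Fin t → Fin k) (Fin t → Fin k) F) *ᵥ tp xs)
      ((g : Matrix (Fin t → Fin k) (Fin t → Fin k) F) *ᵥ tp ys) = fo G (tp xs) (tp ys)) : g ∈ isoG G := by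
  rw [mem_isoG]
  ext a b
  have h1 := h (fun i => Pi.single (a i) 1) (fun i => Pi.single (b i) 1)
  rw [← single_eq_tp, ← single_eq_tp] at h1
  unfold fo at h1
  rw [Matrix.mulVec_mulVec, ← Matrix.vecMul_transpose, ← Matrix.dotProduct_mulVec, Matrix.mulVec_mulVec,
    ← Matrix.mul_assoc] at h1
  simpa using h1

theorem alt_GG {G₁ : Matrix (Fin k) (Fin k) F} (h2 : (2 : F) ≠ 0) (hG₁ : Alt G₁) (ht : Odd t) : Alt (GG G₁ t) := by
  have hT : G₁ᵀ = -G₁ := hG₁.transpose
  have hGT : (GG G₁ t)ᵀ = -(GG G₁ t) := by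
    ext a b
    rw [Matrix.transpose_apply, Matrix.neg_apply]
    unfold GG
    rw [pm_apply, pm_apply]
    have h1 : ∀ i, G₁ (b i) (a i) = (-1) * G₁ (a i) (b i) := by
      intro i
      have := congrFun (congrFun hT (a i)) (b i)
      rw [Matrix.transpose_apply, Matrix.neg_apply] at this
      rw [this, neg_one_mul]
    rw [Finset.prod_congr rfl fun i _ => h1 i, Finset.prod_mul_distrib, Finset.prod_const, Finset.card_univ,
      Fintype.card_fin, ht.neg_one_pow, neg_one_mul]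
  have hdet : IsUnit G₁.det := by
    rw [isUnit_iff_ne_zero]
    intro h0
    obtain ⟨v, hv, h1⟩ := Matrix.exists_vecMul_eq_zero_iff.2 h0
    apply hv
    apply hG₁.nd
    intro y
    unfold fo
    rw [Matrix.dotProduct_mulVec, h1, zero_dotProduct]
  have hinv : GG G₁ t * pm (fun _ : Fin t => G₁⁻¹) = 1 := by
    unfold GG
    rw [pm_mul, Matrix.mul_nonsing_inv _ hdet, pm_one]
  refine ⟨fun x => ?_, fun x hx => ?_⟩
  · have h1 : fo (GG G₁ t) x x = -fo (GG G₁ t) x x := by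
      unfold fo
      conv_lhs => rw [Matrix.dotProduct_mulVec, ← Matrix.mulVec_transpose, hGT, Matrix.neg_mulVec, neg_dotProduct,
        dotProduct_comm]
    have h3 : 2 * fo (GG G₁ t) x x = 0 := by linear_combination h1
    exact (mul_eq_zero.1 h3).resolve_left h2
  · have h1 : x ᵥ* (GG G₁ t) = 0 := by
      funext a
      have h3 := hx (Pi.single a 1)
      unfold fo at h3
      rw [Matrix.dotProduct_mulVec] at h3
      simpa using h3
    calc x = x ᵥ* (GG G₁ t * pm (fun _ : Fin t => G₁⁻¹)) := by rw [hinv, Matrix.vecMul_one]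
      _ = 0 := by rw [← Matrix.vecMul_vecMul, h1, Matrix.zero_vecMul]

/-- the vector `v ⊗ J ⊗ v ⊗ ⋯`, `J` in the slots `α`, `β` -/
noncomputable def DD (G₁ : Matrix (Fin k) (Fin k) F) (v : Fin k → F) (α β : Fin t) : (Fin t → Fin k) → F :=
  ∑ p : Fin k, tp (Function.update (Function.update (fun _ => v) α (Pi.single p 1)) β (G₁⁻¹ *ᵥ Pi.single p 1))

/-- the functional of `DD` -/
def lam (G₁ : Matrix (Fin k) (Fin k) F) (v : Fin k → F) (α β : Fin t) (ys : Fin t → (Fin k → F)) : F :=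
  fo G₁ (ys α) (ys β) * ∏ j ∈ (Finset.univ.erase α).erase β, fo G₁ v (ys j)

theorem prod_two {M : Type*} [CommMonoid M] {α β : Fin t} (hαβ : α ≠ β) (φ : Fin t → M) :
    ∏ i, φ i = φ α * φ β * ∏ j ∈ (Finset.univ.erase α).erase β, φ j := by
  rw [← Finset.mul_prod_erase Finset.univ φ (Finset.mem_univ α),
    ← Finset.mul_prod_erase (Finset.univ.erase α) φ (Finset.mem_erase.2 ⟨hαβ.symm, Finset.mem_univ β⟩), mul_assoc]

theorem fo_sum_left {κ ι : Type} [Fintype κ] [DecidableEq κ] (G : Matrix κ κ F) (s : Finset ι) (x : ι → κ → F)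
    (y : κ → F) : fo G (∑ i ∈ s, x i) y = ∑ i ∈ s, fo G (x i) y := by
  unfold fo
  rw [sum_dotProduct]

theorem fo_DD {G₁ : Matrix (Fin k) (Fin k) F} (hG₁ : Alt G₁) (v : Fin k → F) {α β : Fin t} (hαβ : α ≠ β)
    (ys : Fin t → (Fin k → F)) : fo (GG G₁ t) (DD G₁ v α β) (tp ys) = lam G₁ v α β ys := by
  have hdet : IsUnit G₁.det := by
    rw [isUnit_iff_ne_zero]
    intro h0
    obtain ⟨v, hv, h1⟩ := Matrix.exists_vecMul_eq_zero_iff.2 h0
    apply hv
    apply hG₁.nd
    intro y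
    unfold fo
    rw [Matrix.dotProduct_mulVec, h1, zero_dotProduct]
  unfold DD lam
  rw [fo_sum_left]
  have h1 : ∀ p : Fin k, fo (GG G₁ t)
      (tp (Function.update (Function.update (fun _ => v) α (Pi.single p 1)) β (G₁⁻¹ *ᵥ Pi.single p 1))) (tp ys) =
      fo G₁ (Pi.single p 1) (ys α) * fo G₁ (G₁⁻¹ *ᵥ Pi.single p 1) (ys β) *
        ∏ j ∈ (Finset.univ.erase α).erase β, fo G₁ v (ys j) := by
    intro p
    rw [fo_tp, prod_two hαβ]
    congr 1
    · rw [Function.update_of_ne hαβ, Function.update_self, Function.update_self]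
    · refine Finset.prod_congr rfl fun j hj => ?_
      rw [Finset.mem_erase, Finset.mem_erase] at hj
      rw [Function.update_of_ne hj.1, Function.update_of_ne hj.2.1]
  rw [Finset.sum_congr rfl fun p _ => h1 p, ← Finset.sum_mul]
  congr 1
  -- `∑ f(e_p, y) f(w_p, y') = f(y, y')`
  have h3 : ys α = ∑ p : Fin k, fo G₁ (Pi.single p 1) (ys α) • (G₁⁻¹ *ᵥ (Pi.single p (1 : F) : Fin k → F)) := by
    have h4 : ∀ p : Fin k, fo G₁ (Pi.single p 1) (ys α) = (G₁ *ᵥ ys α) p := by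
      intro p
      unfold fo
      simp
    simp only [h4]
    have h5 : (G₁ *ᵥ ys α) = ∑ p : Fin k, (G₁ *ᵥ ys α) p • (Pi.single p (1 : F) : Fin k → F) := by
      funext j
      simp [Finset.sum_apply, Pi.single_apply]
    have h6 : G₁⁻¹ *ᵥ (G₁ *ᵥ ys α) = ys α := by
      rw [Matrix.mulVec_mulVec, Matrix.nonsing_inv_mul _ hdet, Matrix.one_mulVec]
    conv_lhs => rw [← h6, h5]
    rw [Matrix.mulVec_sum]
    simp only [Matrix.mulVec_smul]
  conv_rhs => rw [h3]
  rw [fo_sum_left]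
  simp only [fo_smul_left]

end pow

end Cfsg.Agent.H663.EP
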