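import Cfsg.Agent.H663.EP.C7Base

/-!
# S3499: tensor powers; the elements of `M ∩ M^x` (helper663)

`x = T_D`, `D = DD`. `fix_of_cj` : an isometry `y ∈ M ∩ M^x` satisfies `y D = ± D`.
-/

set_option autoImplicit false
set_option linter.unusedSectionVars false

namespace Cfsg.Agent.H663.EP

open Matrix Cfsg.Geo Cfsg.Agent.H889 Cfsg.Agent.H284
open scoped MatrixGroups

variable {F : Type*} [Field F] {k t : ℕ}

section multilinear

variable {W : Type*} [AddCommGroup W] [Module F W]

/-- **Two multilinear forms**: `Φ = 0` implies `Ψ = 0` gives proportionality -/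
theorem multilinear_prop (h2 : (2 : F) ≠ 0) (Φ Ψ : (Fin t → W) → F)
    (hΦa : ∀ (xs : Fin t → W) (i : Fin t) (x y : W),
      Φ (Function.update xs i (x + y)) = Φ (Function.update xs i x) + Φ (Function.update xs i y))
    (hΦs : ∀ (xs : Fin t → W) (i : Fin t) (c : F) (x : W),
      Φ (Function.update xs i (c • x)) = c * Φ (Function.update xs i x))
    (hΨa : ∀ (xs : Fin t → W) (i : Fin t) (x y : W),
      Ψ (Function.update xs i (x + y)) = Ψ (Function.update xs i x) + Ψ (Function.update xs i y))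
    (hΨs : ∀ (xs : Fin t → W) (i : Fin t) (c : F) (x : W),
      Ψ (Function.update xs i (c • x)) = c * Ψ (Function.update xs i x))
    (H : ∀ xs, Φ xs = 0 → Ψ xs = 0) (xs ys : Fin t → W) : Ψ xs * Φ ys = Ψ ys * Φ xs := by
  classical
  -- one slot
  have single : ∀ (xs : Fin t → W) (i : Fin t) (x y : W),
      Ψ (Function.update xs i x) * Φ (Function.update xs i y) =
        Ψ (Function.update xs i y) * Φ (Function.update xs i x) := by
    intro xs i x y
    set a := Φ (Function.update xs i x) with ha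
    set b := Φ (Function.update xs i y) with hb
    have h1 : Φ (Function.update xs i (b • x + (-a) • y)) = 0 := by
      rw [hΦa, hΦs, hΦs, ← ha, ← hb]
      ring
    have h3 := H _ h1
    rw [hΨa, hΨs, hΨs] at h3
    linear_combination h3
  have main : ∀ (s : Finset (Fin t)) (xs ys : Fin t → W), (∀ i, i ∉ s → xs i = ys i) → Φ xs ≠ 0 → Φ ys ≠ 0 →
      Ψ xs * Φ ys = Ψ ys * Φ xs := by
    intro s
    induction s using Finset.induction_on with
    | empty =>
      intro xs ys hxy _ _
      have : xs = ys := funext fun i => hxy i (Finset.notMem_empty i)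
      rw [this]
    | insert i s his ih =>
      intro xs ys hxy hx hy
      set a := Φ xs with ha
      set b := Φ (Function.update xs i (ys i)) with hb
      set a' := Φ (Function.update ys i (xs i)) with ha'
      set b' := Φ ys with hb'
      obtain ⟨l, hl1, hl2⟩ : ∃ l : F, a + l * b ≠ 0 ∧ a' + l * b' ≠ 0 := by
        by_cases h1 : a' = 0
        · by_cases h3 : a + b = 0
          · refine ⟨-1, ?_, ?_⟩
            · intro h4
              have h5 : 2 * a = 0 := by linear_combination h3 + h4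
              exact hx ((mul_eq_zero.1 h5).resolve_left h2)
            · rw [h1]
              intro h4
              apply hy
              linear_combination -h4
          · refine ⟨1, by rwa [one_mul], ?_⟩
            rw [h1, zero_add, one_mul]
            exact hy
        · exact ⟨0, by rwa [zero_mul, add_zero], by rwa [zero_mul, add_zero]⟩
      set u := xs i + l • ys i with hu
      have hX1 : Φ (Function.update xs i u) = a + l * b := by
        rw [hu, hΦa, hΦs, Function.update_eq_self]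
      have hY1 : Φ (Function.update ys i u) = a' + l * b' := by
        rw [hu, hΦa, hΦs, Function.update_eq_self]
      have h3 := ih (Function.update xs i u) (Function.update ys i u) (by
        intro j hj
        by_cases hji : j = i
        · subst hji
          rw [Function.update_self, Function.update_self]
        · rw [Function.update_of_ne hji, Function.update_of_ne hji]
          apply hxy
          rw [Finset.mem_insert]
          push Not
          exact ⟨hji, hj⟩) (by rw [hX1]; exact hl1) (by rw [hY1]; exact hl2)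
      have h4 := single xs i (xs i) u
      have h5 := single ys i (ys i) u
      rw [Function.update_eq_self] at h4 h5
      have hX0 : Φ (Function.update xs i u) ≠ 0 := by rw [hX1]; exact hl1
      have hY0 : Φ (Function.update ys i u) ≠ 0 := by rw [hY1]; exact hl2
      apply mul_right_cancel₀ (mul_ne_zero hX0 hY0)
      rw [← ha, ← hb'] at *
      linear_combination (b' * Φ (Function.update ys i u)) * h4 - (a * Φ (Function.update xs i u)) * h5 + (a * b') * h3
  by_cases hx : Φ xs = 0
  · rw [H xs hx, hx, zero_mul, mul_zero]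
  by_cases hy : Φ ys = 0
  · rw [H ys hy, hy, zero_mul, mul_zero]
  exact main Finset.univ xs ys (fun i hi => absurd (Finset.mem_univ i) hi) hx hy

end multilinear

variable {G₁ : Matrix (Fin k) (Fin k) F}

/-- the minor identity for the pairings of a pure tensor -/
theorem tp_minor (us ys ys' : Fin t → (Fin k → F)) (o : Fin t) :
    fo (GG G₁ t) (tp us) (tp ys) * fo (GG G₁ t) (tp us) (tp ys') =
      fo (GG G₁ t) (tp us) (tp (Function.update ys o (ys' o))) *
        fo (GG G₁ t) (tp us) (tp (Function.update ys' o (ys o))) := by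
  have key : ∀ (zs : Fin t → (Fin k → F)) (z : Fin k → F),
      fo (GG G₁ t) (tp us) (tp (Function.update zs o z)) =
        fo G₁ (us o) z * ∏ j ∈ Finset.univ.erase o, fo G₁ (us j) (zs j) := by
    intro zs z
    rw [fo_tp, ← Finset.mul_prod_erase Finset.univ _ (Finset.mem_univ o), Function.update_self]
    congr 1
    refine Finset.prod_congr rfl fun j hj => ?_
    rw [Function.update_of_ne (Finset.ne_of_mem_erase hj)]
  have h1 := key ys (ys o)
  have h2 := key ys' (ys' o)
  rw [Function.update_eq_self] at h1 h2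
  rw [h1, h2, key, key]
  ring

theorem lam_zero_of {v : Fin k → F} {α β j : Fin t} (hjα : j ≠ α) (hjβ : j ≠ β) {ys : Fin t → (Fin k → F)}
    (h : fo G₁ v (ys j) = 0) : lam G₁ v α β ys = 0 := by
  unfold lam
  rw [Finset.prod_eq_zero (Finset.mem_erase.2 ⟨hjβ, Finset.mem_erase.2 ⟨hjα, Finset.mem_univ j⟩⟩) h, mul_zero]

theorem lam_ne {v : Fin k → F} {α β : Fin t} {ys : Fin t → (Fin k → F)} (h : lam G₁ v α β ys ≠ 0) :
    fo G₁ (ys α) (ys β) ≠ 0 ∧ ∀ j, j ≠ α → j ≠ β → fo G₁ v (ys j) ≠ 0 := by
  refine ⟨?_, fun j h1 h2 h3 => h (lam_zero_of h1 h2 h3)⟩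
  intro h1
  apply h
  unfold lam
  rw [h1, zero_mul]

/-- `tp zs + c D` is not a pure tensor, if `f(tp zs, D) ≠ 0`, `c ≠ 0` -/
theorem not_tp (hG₁ : Alt G₁) (hG : Alt (GG G₁ t)) {v : Fin k → F} {α β o : Fin t} (hαβ : α ≠ β) (hoα : o ≠ α)
    (hoβ : o ≠ β) {zs us : Fin t → (Fin k → F)} {c : F} (hc : c ≠ 0)
    (hz : fo (GG G₁ t) (tp zs) (DD G₁ v α β) ≠ 0) (h : tp zs + c • DD G₁ v α β = tp us) : False := by
  have hl : lam G₁ v α β zs ≠ 0 := by
    rw [hG.skew, fo_DD hG₁ v hαβ] at hz
    intro h0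
    rw [h0, neg_zero] at hz
    exact hz rfl
  obtain ⟨h1, h2⟩ := lam_ne hl
  have hz0 : ∀ i, zs i ≠ 0 := by
    intro i
    by_cases hi : i = α
    · rw [hi]; exact Alt.ne_zero_left h1
    by_cases hi' : i = β
    · rw [hi']; exact Alt.ne_zero_right h1
    · exact Alt.ne_zero_right (h2 i hi hi')
  choose ω hω using fun i => hG₁.exists_ne (hz0 i)
  set ys : Fin t → (Fin k → F) := Function.update ω o v with hys
  have hev : ∀ zs' : Fin t → (Fin k → F), fo (GG G₁ t) (tp us) (tp zs') =
      (∏ i, fo G₁ (zs i) (zs' i)) + c * lam G₁ v α β zs' := by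
    intro zs'
    rw [← h, fo_add_left, fo_smul_left, fo_DD hG₁ v hαβ, fo_tp]
  have hm := tp_minor (G₁ := G₁) us ys zs o
  rw [hev, hev, hev, hev] at hm
  -- the four values
  have e1 : lam G₁ v α β ys = 0 := lam_zero_of hoα hoβ (by rw [hys, Function.update_self, hG₁.alt])
  have e2 : ∏ i, fo G₁ (zs i) (zs i) = 0 := Finset.prod_eq_zero (Finset.mem_univ α) (hG₁.alt _)
  have e3 : ∏ i, fo G₁ (zs i) ((Function.update zs o (ys o)) i) = 0 :=
    Finset.prod_eq_zero (Finset.mem_univ α) (by rw [Function.update_of_ne (Ne.symm hoα), hG₁.alt])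
  have e4 : lam G₁ v α β (Function.update zs o (ys o)) = 0 := lam_zero_of hoα hoβ (by
    rw [Function.update_self, hys, Function.update_self, hG₁.alt])
  have e5 : ∏ i, fo G₁ (zs i) (ys i) ≠ 0 := by
    rw [Finset.prod_ne_zero_iff]
    intro i _
    by_cases hi : i = o
    · rw [hi, hys, Function.update_self, hG₁.skew]
      exact neg_ne_zero.2 (h2 o hoα hoβ)
    · rw [hys, Function.update_of_ne hi]
      exact hω i
  rw [e1, e2, e3, e4, mul_zero, add_zero, zero_add, add_zero, mul_zero] at hm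
  exact (mul_ne_zero e5 (mul_ne_zero hc hl)) hm

/-- a family with all factors of `lam` nonzero -/
theorem exists_lam_ne (hG₁ : Alt G₁) {v : Fin k → F} (hv : v ≠ 0) {α β : Fin t} (hαβ : α ≠ β) {a b : Fin k → F}
    (hab : fo G₁ a b ≠ 0) : ∃ ys : Fin t → (Fin k → F), ys α = a ∧ ys β = b ∧ lam G₁ v α β ys ≠ 0 := by
  obtain ⟨r, hr⟩ := hG₁.exists_ne hv
  refine ⟨Function.update (Function.update (fun _ => r) α a) β b, ?_, ?_, ?_⟩
  · rw [Function.update_of_ne hαβ, Function.update_self]
  · rw [Function.update_self]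
  · unfold lam
    rw [Function.update_of_ne hαβ, Function.update_self, Function.update_self]
    refine mul_ne_zero hab (Finset.prod_ne_zero_iff.2 fun j hj => ?_)
    rw [Finset.mem_erase, Finset.mem_erase] at hj
    rw [Function.update_of_ne hj.1, Function.update_of_ne hj.2.1]
    exact hr

theorem DD_ne (hG₁ : Alt G₁) {v : Fin k → F} (hv : v ≠ 0) {α β : Fin t} (hαβ : α ≠ β) : DD G₁ v α β ≠ 0 := by
  intro h
  obtain ⟨r, hr⟩ := hG₁.exists_ne hv
  obtain ⟨ys, -, -, h3⟩ := exists_lam_ne hG₁ hv hαβ hr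
  rw [← fo_DD hG₁ v hαβ, h, fo_zero_left] at h3
  exact h3 rfl

/-- **the elements of `M ∩ M^x`** -/
theorem fix_of_cj (h2 : (2 : F) ≠ 0) (hG₁ : Alt G₁) (hG : Alt (GG G₁ t)) {v : Fin k → F} (hv : v ≠ 0)
    {α β o : Fin t} (hαβ : α ≠ β) (hoα : o ≠ α) (hoβ : o ≠ β) {y : GL (Fin t → Fin k) F} (hy : y ∈ isoG (GG G₁ t))
    (hyM : y ∈ tensorWreathStandard k t F)
    (hyx : y ∈ cj (tvG hG (DD G₁ v α β)) (tensorWreathStandard k t F)) :
    (y : Matrix (Fin t → Fin k) (Fin t → Fin k) F) *ᵥ DD G₁ v α β = DD G₁ v α β ∨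
      (y : Matrix (Fin t → Fin k) (Fin t → Fin k) F) *ᵥ DD G₁ v α β = -DD G₁ v α β := by
  set D := DD G₁ v α β with hD
  set D' := ((y⁻¹ : GL (Fin t → Fin k) F) : Matrix (Fin t → Fin k) (Fin t → Fin k) F) *ᵥ D with hD'
  have hyD : (y : Matrix (Fin t → Fin k) (Fin t → Fin k) F) *ᵥ D' = D := by
    rw [hD', Matrix.mulVec_mulVec, ← Units.val_mul, mul_inv_cancel, Units.val_one, Matrix.one_mulVec]
  have hD0 : D ≠ 0 := DD_ne hG₁ hv hαβ
  -- `g = T_{D'}⁻¹ T_D ∈ M`
  have hg : (tvG hG D')⁻¹ * tvG hG D ∈ tensorWreathStandard k t F := by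
    have h1 := (tensorWreathStandard k t F).mul_mem ((tensorWreathStandard k t F).inv_mem hyM) (mem_cj.1 hyx)
    have h3 : y⁻¹ * tvG hG D = tvG hG D' * y⁻¹ := mul_tvG hG ((isoG (GG G₁ t)).inv_mem hy) D
    have h4 : y⁻¹ * ((tvG hG D)⁻¹ * y * tvG hG D) = (tvG hG D')⁻¹ * tvG hG D := by
      have h5 : tvG hG D' = y⁻¹ * tvG hG D * y := by rw [h3]; group
      rw [h5]; group
    rwa [h4] at h1
  obtain ⟨gs, σ, hmon⟩ := exists_isMonomialOn hg
  have hgz : ∀ z : (Fin t → Fin k) → F,
      (((tvG hG D')⁻¹ * tvG hG D : GL (Fin t → Fin k) F) : Matrix (Fin t → Fin k) (Fin t → Fin k) F) *ᵥ z =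
        (z + fo (GG G₁ t) z D • D) - (fo (GG G₁ t) z D' + fo (GG G₁ t) z D * fo (GG G₁ t) D D') • D' := by
    intro z
    rw [Units.val_mul, ← Matrix.mulVec_mulVec, tvG_mulVec, tvG_inv_mulVec, fo_add_left, fo_smul_left]
  have hzs0 : ∃ zs : Fin t → (Fin k → F), fo (GG G₁ t) (tp zs) D ≠ 0 := by
    obtain ⟨r, hr⟩ := hG₁.exists_ne hv
    obtain ⟨ys, -, -, h3⟩ := exists_lam_ne hG₁ hv hαβ hr
    refine ⟨ys, ?_⟩
    rw [hG.skew, hD, fo_DD hG₁ v hαβ]
    exact neg_ne_zero.2 h3
  by_cases H : ∀ zs : Fin t → (Fin k → F),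
      fo (GG G₁ t) (tp zs) D' + fo (GG G₁ t) (tp zs) D * fo (GG G₁ t) D D' = 0 → fo (GG G₁ t) (tp zs) D = 0
  · have hprop := multilinear_prop h2
      (fun zs => fo (GG G₁ t) (tp zs) D' + fo (GG G₁ t) (tp zs) D * fo (GG G₁ t) D D')
      (fun zs => fo (GG G₁ t) (tp zs) D)
      (fun xs i x y => by simp only [tp_update_add, fo_add_left]; ring)
      (fun xs i c x => by simp only [tp_update_smul, fo_smul_left]; ring)
      (fun xs i x y => by simp only [tp_update_add, fo_add_left])
      (fun xs i c x => by simp only [tp_update_smul, fo_smul_left]) H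
    obtain ⟨zs, hzs⟩ := hzs0
    set b := fo (GG G₁ t) (tp zs) D with hb
    set a := fo (GG G₁ t) (tp zs) D' + b * fo (GG G₁ t) D D' with ha
    have ha0 : a ≠ 0 := fun e => hzs (H zs e)
    -- `a D = b (D' + β D)`
    have h3 : a • D = b • (D' + fo (GG G₁ t) D D' • D) := by
      apply eq_of_tp hG
      intro ys
      have h4 := hprop ys zs
      simp only [← hb, ← ha] at h4
      rw [hG.skew, hG.skew (b • _)]
      congr 1
      rw [fo_smul_right, fo_smul_right, fo_add_right, fo_smul_right]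
      linear_combination h4
    have h4 : fo (GG G₁ t) D D' = 0 := by
      have h5 := congrArg (fun z => fo (GG G₁ t) D z) h3
      simp only [fo_smul_right, fo_add_right, hG.alt, mul_zero, add_zero] at h5
      exact (mul_eq_zero.1 h5.symm).resolve_left hzs
    rw [h4, zero_smul, add_zero] at h3
    set l := b⁻¹ * a with hl
    have h5 : D' = l • D := by
      rw [hl, mul_smul, h3, smul_smul, inv_mul_cancel₀ hzs, one_smul]
    have hl2 : l * l = 1 := by
      by_contra hne
      have h6 := hmon zs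
      have h7 : (tp zs + ((1 - l * l) * b) • D : (Fin t → Fin k) → F) = tp (fun i => (gs i).val *ᵥ zs (σ i)) := by
        rw [← h6]
        have h8 := hgz (tp zs)
        rw [h8, h4, mul_zero, add_zero, h5, fo_smul_right, smul_smul, ← hb, sub_mul, sub_smul, one_mul]
        rw [show l * b * l = l * l * b by ring]
        abel
      exact not_tp hG₁ hG hαβ hoα hoβ (mul_ne_zero (sub_ne_zero.2 (Ne.symm hne)) hzs) hzs h7
    have hl3 : l = 1 ∨ l = -1 := mul_self_eq_one_iff.1 hl2
    rcases hl3 with hl3 | hl3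
    · left
      rw [hl3, one_smul] at h5
      rw [← h5] at hyD
      rw [h5] at hyD
      exact hyD
    · right
      rw [hl3, neg_smul, one_smul] at h5
      rw [h5, Matrix.mulVec_neg] at hyD
      rw [← hyD, neg_neg, hyD]
  · exfalso
    push Not at H
    obtain ⟨zs, hz1, hz2⟩ := H
    have h6 := hmon zs
    have h8 := hgz (tp zs)
    rw [hz1, zero_smul, sub_zero] at h8
    exact not_tp hG₁ hG hαβ hoα hoβ hz2 hz2 (h8.symm.trans h6)

end Cfsg.Agent.H663.EP
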