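import Cfsg.Agent.H663.EP.C7Fix
import Cfsg.Agent.H919.AschWreath

/-!
# S3499: tensor powers; the swap of two factors (helper663)
-/

set_option autoImplicit false
set_option linter.unusedSectionVars false

namespace Cfsg.Agent.H663.EP

open Matrix Cfsg.Geo Cfsg.Agent.H889 Cfsg.Agent.H284 Cfsg.Agent.H919
open scoped MatrixGroups

variable {F : Type*} [Field F] {k t : ℕ}

theorem facPerm_tp (σ : Equiv.Perm (Fin t)) (xs : Fin t → (Fin k → F)) :
    (facPerm F k σ : Matrix (Fin t → Fin k) (Fin t → Fin k) F) *ᵥ tp xs = tp (fun i => xs (σ⁻¹ i)) := by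
  funext a
  have h1 : ((facPerm F k σ : Matrix (Fin t → Fin k) (Fin t → Fin k) F) *ᵥ tp xs) a = tp xs (a ∘ σ) := by
    rw [Matrix.mulVec, dotProduct, Finset.sum_eq_single (a ∘ σ)]
    · rw [facPerm_val, if_pos rfl, one_mul]
    · intro b _ hb
      rw [facPerm_val, if_neg hb, zero_mul]
    · intro h
      exact absurd (Finset.mem_univ _) h
  rw [h1]
  have h2 := tp_comp_perm (fun i => xs (σ⁻¹ i)) σ a
  simp only [perm_inv_apply_self] at h2
  exact h2

/-- the swap of the factors `α`, `β` -/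
def swp (F : Type*) [Field F] (k : ℕ) {t : ℕ} (α β : Fin t) : GL (Fin t → Fin k) F := facPerm F k (Equiv.swap α β)

theorem swp_tp (α β : Fin t) (xs : Fin t → (Fin k → F)) :
    (swp F k α β : Matrix (Fin t → Fin k) (Fin t → Fin k) F) *ᵥ tp xs = tp (fun i => xs (Equiv.swap α β i)) := by
  unfold swp
  rw [facPerm_tp, Equiv.swap_inv]

theorem swp_mem (α β : Fin t) : swp F k α β ∈ tensorWreathStandard k t F := facPerm_mem _

theorem swp_sq (α β : Fin t) : swp F k α β * swp F k α β = 1 := by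
  apply gl_eq_of_tp
  intro xs
  rw [Units.val_mul, ← Matrix.mulVec_mulVec, swp_tp, swp_tp, Units.val_one, Matrix.one_mulVec]
  simp only [Equiv.swap_apply_self]

variable {G₁ : Matrix (Fin k) (Fin k) F}

theorem swp_iso (α β : Fin t) : swp F k α β ∈ isoG (GG G₁ t) := by
  apply mem_isoG_of_tp
  intro xs ys
  rw [swp_tp, swp_tp, fo_tp, fo_tp]
  exact Equiv.prod_comp (Equiv.swap α β) (fun i => fo G₁ (xs i) (ys i))

theorem lam_swap (hG₁ : Alt G₁) {v : Fin k → F} {α β : Fin t} (ys : Fin t → (Fin k → F)) :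
    lam G₁ v α β (fun i => ys (Equiv.swap α β i)) = -lam G₁ v α β ys := by
  unfold lam
  simp only [Equiv.swap_apply_left, Equiv.swap_apply_right]
  rw [hG₁.skew (ys β), neg_mul]
  congr 2
  refine Finset.prod_congr rfl fun j hj => ?_
  rw [Finset.mem_erase, Finset.mem_erase] at hj
  rw [Equiv.swap_apply_of_ne_of_ne hj.2.1 hj.1]

theorem swp_inv (α β : Fin t) : (swp F k α β)⁻¹ = swp F k α β := inv_eq_of_mul_eq_one_right (swp_sq α β)

theorem swp_DD (hG₁ : Alt G₁) (hG : Alt (GG G₁ t)) {v : Fin k → F} {α β : Fin t} (hαβ : α ≠ β) :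
    (swp F k α β : Matrix (Fin t → Fin k) (Fin t → Fin k) F) *ᵥ DD G₁ v α β = -DD G₁ v α β := by
  apply eq_of_tp hG
  intro ys
  rw [fo_isoG_left (swp_iso α β), swp_inv, swp_tp, fo_DD hG₁ v hαβ, lam_swap hG₁, ← neg_one_smul F (DD G₁ v α β),
    fo_smul_left, fo_DD hG₁ v hαβ, neg_one_mul]

/-- the swap commutes with `T_D` -/
theorem swp_comm (hG₁ : Alt G₁) (hG : Alt (GG G₁ t)) {v : Fin k → F} {α β : Fin t} (hαβ : α ≠ β) :
    swp F k α β * tvG hG (DD G₁ v α β) = tvG hG (DD G₁ v α β) * swp F k α β := by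
  rw [mul_tvG hG (swp_iso α β), swp_DD hG₁ hG hαβ, tvG_neg]

/-- a family with prescribed values in two slots and nonzero pairings -/
theorem exists_ne_family (hG₁ : Alt G₁) (zs : Fin t → (Fin k → F)) (hz : ∀ i, zs i ≠ 0) :
    ∃ ys : Fin t → (Fin k → F), ∀ i, fo G₁ (zs i) (ys i) ≠ 0 := by
  choose ω hω using fun i => hG₁.exists_ne (hz i)
  exact ⟨ω, hω⟩

theorem swp_not_scalar (hG₁ : Alt G₁) {v : Fin k → F} (hv : v ≠ 0) {α β : Fin t} (hαβ : α ≠ β) :
    swp F k α β ∉ scalars (Fin t → Fin k) F := by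
  rw [mem_scalars_iff]
  rintro ⟨c, hc⟩
  obtain ⟨r, hr⟩ := hG₁.exists_ne hv
  -- `xs α = v`, `xs β = r`, `ys α = v`
  set xs : Fin t → (Fin k → F) := Function.update (fun _ => r) α v with hxs
  set ys : Fin t → (Fin k → F) := Function.update (Function.update (fun _ => v) β r) α v with hys
  have h1 := congrArg (fun z => fo (GG G₁ t) z (tp ys)) (swp_tp (F := F) α β xs)
  simp only [hc, Matrix.smul_mulVec, Matrix.one_mulVec, fo_smul_left, fo_tp] at h1
  have h3 : ∏ i, fo G₁ (xs i) (ys i) = 0 := Finset.prod_eq_zero (Finset.mem_univ α) (by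
    rw [hxs, hys, Function.update_self, Function.update_self, hG₁.alt])
  rw [h3, mul_zero] at h1
  refine (Finset.prod_ne_zero_iff.2 fun i _ => ?_) h1.symm
  by_cases hi : i = α
  · subst hi
    rw [Equiv.swap_apply_left, hxs, hys, Function.update_of_ne hαβ.symm, Function.update_self, hG₁.skew]
    exact neg_ne_zero.2 hr
  by_cases hi' : i = β
  · subst hi'
    rw [Equiv.swap_apply_right, hxs, hys, Function.update_self, Function.update_of_ne hi, Function.update_self]
    exact hr
  · rw [Equiv.swap_apply_of_ne_of_ne hi hi', hxs, hys, Function.update_of_ne hi, Function.update_of_ne hi,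
      Function.update_of_ne hi', hG₁.skew]
    exact neg_ne_zero.2 hr

/-- vectors are determined by the form -/
theorem Alt.eq_of_right {G : Matrix (Fin k) (Fin k) F} (hG : Alt G) {x y : Fin k → F}
    (h : ∀ z, fo G x z = fo G y z) : x = y := by
  rw [← sub_eq_zero]
  apply hG.nd
  intro z
  rw [fo_sub_left, h, sub_self]

/-- **isometries in the wreath product fixing `D` up to sign commute with the swap** -/
theorem swp_comm_of_fix (hG₁ : Alt G₁) (hG : Alt (GG G₁ t)) {v : Fin k → F} (hv : v ≠ 0) {α β : Fin t}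
    (hαβ : α ≠ β) {y : GL (Fin t → Fin k) F} (hy : y ∈ isoG (GG G₁ t)) (hyM : y ∈ tensorWreathStandard k t F)
    {ε : F} (hε : ε ≠ 0)
    (hyD : (y : Matrix (Fin t → Fin k) (Fin t → Fin k) F) *ᵥ DD G₁ v α β = ε • DD G₁ v α β) :
    swp F k α β * y = y * swp F k α β := by
  classical
  obtain ⟨hs, τ, hmon⟩ := exists_isMonomialOn ((tensorWreathStandard k t F).inv_mem hyM)
  obtain ⟨r, hr⟩ := hG₁.exists_ne hv
  -- (**)
  have h0 : ∀ ys : Fin t → (Fin k → F), lam G₁ v α β (fun i => (hs i).val *ᵥ ys (τ i)) = ε * lam G₁ v α β ys := by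
    intro ys
    rw [← fo_DD hG₁ v hαβ, ← hmon, ← fo_isoG_left hy, hyD, fo_smul_left, fo_DD hG₁ v hαβ]
  have hinv : ∀ (j : Fin t) (z : Fin k → F),
      (hs j).val *ᵥ (((hs j)⁻¹ : GL (Fin k) F) : Matrix (Fin k) (Fin k) F) *ᵥ z = z := by
    intro j z
    rw [Matrix.mulVec_mulVec, ← Units.val_mul, mul_inv_cancel, Units.val_one, Matrix.one_mulVec]
  -- Claim A
  have hA : ∀ j, j ≠ α → j ≠ β → τ j ≠ α ∧ τ j ≠ β := by
    intro j hjα hjβ
    set a' := (((hs j)⁻¹ : GL (Fin k) F) : Matrix (Fin k) (Fin k) F) *ᵥ v with ha'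
    have ha0 : a' ≠ 0 := gl_mulVec_ne_zero _ hv
    obtain ⟨b', hb'⟩ := hG₁.exists_ne ha0
    constructor
    · intro e
      obtain ⟨ys, h1, h2, h3⟩ := exists_lam_ne hG₁ hv hαβ hb'
      have h4 := h0 ys
      rw [lam_zero_of hjα hjβ (by rw [e, h1, ha', hinv, hG₁.alt])] at h4
      exact (mul_ne_zero hε h3) h4.symm
    · intro e
      have hb'' : fo G₁ b' a' ≠ 0 := by rw [hG₁.skew]; exact neg_ne_zero.2 hb'
      obtain ⟨ys, h1, h2, h3⟩ := exists_lam_ne hG₁ hv hαβ hb''
      have h4 := h0 ys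
      rw [lam_zero_of hjα hjβ (by rw [e, h2, ha', hinv, hG₁.alt])] at h4
      exact (mul_ne_zero hε h3) h4.symm
  -- Claim B
  have hB : ∀ γ, γ = α ∨ γ = β → τ γ = α ∨ τ γ = β := by
    intro γ hγ
    by_contra hcon
    push Not at hcon
    set C : Finset (Fin t) := (Finset.univ.erase α).erase β with hC
    have hCmem : ∀ j, j ∈ C ↔ j ≠ β ∧ j ≠ α := by
      intro j
      rw [hC, Finset.mem_erase, Finset.mem_erase]
      simp
    have h1 : C.image τ = C := by
      apply Finset.eq_of_subset_of_card_le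
      · intro x hx
        obtain ⟨j, hj, rfl⟩ := Finset.mem_image.1 hx
        obtain ⟨h1, h2⟩ := (hCmem j).1 hj
        obtain ⟨h3, h4⟩ := hA j h2 h1
        exact (hCmem _).2 ⟨h4, h3⟩
      · rw [Finset.card_image_of_injective _ τ.injective]
    have h2 : τ γ ∈ C.image τ := by
      rw [h1, hCmem]
      exact ⟨hcon.2, hcon.1⟩
    obtain ⟨j, hj, h3⟩ := Finset.mem_image.1 h2
    have h4 := τ.injective h3
    obtain ⟨h5, h6⟩ := (hCmem j).1 hj
    rcases hγ with rfl | rfl
    · exact h6 h4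
    · exact h5 h4
  -- Claim C
  obtain ⟨κ, hκ0, hκ⟩ : ∃ κ : F, κ ≠ 0 ∧ ∀ x z, fo G₁ ((hs α).val *ᵥ x) ((hs β).val *ᵥ z) = κ * fo G₁ x z := by
    obtain ⟨ys₀, -, -, hys₀⟩ := exists_lam_ne hG₁ hv hαβ hr
    set R := ∏ j ∈ (Finset.univ.erase α).erase β, fo G₁ v (ys₀ j) with hR
    set R' := ∏ j ∈ (Finset.univ.erase α).erase β, fo G₁ v ((hs j).val *ᵥ ys₀ (τ j)) with hR'
    have hlam : lam G₁ v α β (fun i => (hs i).val *ᵥ ys₀ (τ i)) ≠ 0 := by
      rw [h0]
      exact mul_ne_zero hε hys₀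
    have hR0 : R ≠ 0 := right_ne_zero_of_mul (show fo G₁ (ys₀ α) (ys₀ β) * R ≠ 0 from hys₀)
    have hR'0 : R' ≠ 0 := right_ne_zero_of_mul
      (show fo G₁ ((hs α).val *ᵥ ys₀ (τ α)) ((hs β).val *ᵥ ys₀ (τ β)) * R' ≠ 0 from hlam)
    have key : ∀ x z : Fin k → F, fo G₁ ((hs α).val *ᵥ (Function.update (Function.update ys₀ α x) β z) (τ α))
        ((hs β).val *ᵥ (Function.update (Function.update ys₀ α x) β z) (τ β)) * R' = ε * (fo G₁ x z * R) := by
      intro x z
      have h1 := h0 (Function.update (Function.update ys₀ α x) β z)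
      unfold lam at h1
      rw [Function.update_of_ne hαβ, Function.update_self, Function.update_self] at h1
      have e1 : ∏ j ∈ (Finset.univ.erase α).erase β, fo G₁ v ((Function.update (Function.update ys₀ α x) β z) j) = R := by
        refine Finset.prod_congr rfl fun j hj => ?_
        rw [Finset.mem_erase, Finset.mem_erase] at hj
        rw [Function.update_of_ne hj.1, Function.update_of_ne hj.2.1]
      have e2 : ∏ j ∈ (Finset.univ.erase α).erase β,
          fo G₁ v ((hs j).val *ᵥ (Function.update (Function.update ys₀ α x) β z) (τ j)) = R' := by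
        refine Finset.prod_congr rfl fun j hj => ?_
        rw [Finset.mem_erase, Finset.mem_erase] at hj
        obtain ⟨h3, h4⟩ := hA j hj.2.1 hj.1
        rw [Function.update_of_ne h4, Function.update_of_ne h3]
      rw [e1, e2] at h1
      exact h1
    rcases hB α (Or.inl rfl) with h1 | h1
    · have h2 : τ β = β := by
        rcases hB β (Or.inr rfl) with h3 | h3
        · exact absurd (τ.injective (h3.trans h1.symm)) hαβ.symm
        · exact h3
      refine ⟨ε * R * R'⁻¹, mul_ne_zero (mul_ne_zero hε hR0) (inv_ne_zero hR'0), fun x z => ?_⟩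
      have h3 := key x z
      rw [h1, h2, Function.update_of_ne hαβ, Function.update_self, Function.update_self] at h3
      field_simp
      rw [h3]
      ring
    · have h2 : τ β = α := by
        rcases hB β (Or.inr rfl) with h3 | h3
        · exact h3
        · exact absurd (τ.injective (h3.trans h1.symm)) hαβ.symm
      refine ⟨-(ε * R * R'⁻¹), neg_ne_zero.2 (mul_ne_zero (mul_ne_zero hε hR0) (inv_ne_zero hR'0)), fun x z => ?_⟩
      have h3 := key z x
      rw [h1, h2, Function.update_of_ne hαβ, Function.update_self, Function.update_self, hG₁.skew z x] at h3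
      field_simp
      rw [h3]
      ring
  -- Claim D
  obtain ⟨μ, hμ0, hμ⟩ : ∃ μ : F, μ ≠ 0 ∧ ∀ x z, fo G₁ ((hs α).val *ᵥ x) ((hs α).val *ᵥ z) = μ * fo G₁ x z := by
    have hiso := (isoG (GG G₁ t)).inv_mem hy
    have key : ∀ x z : Fin k → F, fo G₁ ((hs α).val *ᵥ x) ((hs α).val *ᵥ z) *
        ∏ i ∈ Finset.univ.erase α, fo G₁ ((hs i).val *ᵥ v) ((hs i).val *ᵥ r) =
        fo G₁ x z * ∏ i ∈ Finset.univ.erase (τ α), fo G₁ v r := by
      intro x z
      have h1 := fo_isoG hiso (tp (Function.update (fun _ => v) (τ α) x)) (tp (Function.update (fun _ => r) (τ α) z))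
      rw [hmon, hmon, fo_tp, fo_tp, ← Finset.mul_prod_erase Finset.univ _ (Finset.mem_univ α),
        ← Finset.mul_prod_erase Finset.univ (fun i => fo G₁ (Function.update (fun _ => v) (τ α) x i)
          (Function.update (fun _ => r) (τ α) z i)) (Finset.mem_univ (τ α))] at h1
      simp only [Function.update_self] at h1
      have e1 : ∏ i ∈ Finset.univ.erase α, fo G₁ ((hs i).val *ᵥ Function.update (fun _ => v) (τ α) x (τ i))
          ((hs i).val *ᵥ Function.update (fun _ => r) (τ α) z (τ i)) =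
          ∏ i ∈ Finset.univ.erase α, fo G₁ ((hs i).val *ᵥ v) ((hs i).val *ᵥ r) := by
        refine Finset.prod_congr rfl fun i hi => ?_
        have h3 : τ i ≠ τ α := fun e => (Finset.ne_of_mem_erase hi) (τ.injective e)
        rw [Function.update_of_ne h3, Function.update_of_ne h3]
      have e2 : ∏ i ∈ Finset.univ.erase (τ α), fo G₁ (Function.update (fun _ => v) (τ α) x i)
          (Function.update (fun _ => r) (τ α) z i) = ∏ i ∈ Finset.univ.erase (τ α), fo G₁ v r := by
        refine Finset.prod_congr rfl fun i hi => ?_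
        rw [Function.update_of_ne (Finset.ne_of_mem_erase hi), Function.update_of_ne (Finset.ne_of_mem_erase hi)]
      rw [e1, e2] at h1
      exact h1
    set L := ∏ i ∈ Finset.univ.erase α, fo G₁ ((hs i).val *ᵥ v) ((hs i).val *ᵥ r) with hL
    set L' := ∏ i ∈ Finset.univ.erase (τ α), fo G₁ v r with hL'
    have hL'0 : L' ≠ 0 := Finset.prod_ne_zero_iff.2 fun _ _ => hr
    have hL0 : L ≠ 0 := by
      have h1 := key v r
      intro e
      rw [e, mul_zero] at h1
      exact (mul_ne_zero hr hL'0) h1.symm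
    refine ⟨L' * L⁻¹, mul_ne_zero hL'0 (inv_ne_zero hL0), fun x z => ?_⟩
    have h1 := key x z
    field_simp
    rw [h1]
    ring
  -- Claim E
  have hE : ∀ z, (hs β).val *ᵥ z = (κ * μ⁻¹) • ((hs α).val *ᵥ z) := by
    intro z
    apply hG₁.eq_of_right
    intro w
    have h1 : (hs α).val *ᵥ (((hs α)⁻¹ : GL (Fin k) F) : Matrix (Fin k) (Fin k) F) *ᵥ w = w := hinv α w
    rw [← h1, hG₁.skew, hκ, hG₁.skew (_ • _), fo_smul_right, hμ]
    field_simp
  have hρ : κ * μ⁻¹ ≠ 0 := mul_ne_zero hκ0 (inv_ne_zero hμ0)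
  -- Claim F
  have hτs : ∀ i, τ (Equiv.swap α β i) = Equiv.swap α β (τ i) := by
    intro i
    by_cases hi : i = α
    · subst hi
      rw [Equiv.swap_apply_left]
      rcases hB i (Or.inl rfl) with h1 | h1 <;> rcases hB β (Or.inr rfl) with h2 | h2
      · exact absurd (τ.injective (h2.trans h1.symm)) hαβ.symm
      · rw [h1, h2, Equiv.swap_apply_left]
      · rw [h1, h2, Equiv.swap_apply_right]
      · exact absurd (τ.injective (h2.trans h1.symm)) hαβ.symm
    by_cases hi' : i = β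
    · subst hi'
      rw [Equiv.swap_apply_right]
      rcases hB α (Or.inl rfl) with h1 | h1 <;> rcases hB i (Or.inr rfl) with h2 | h2
      · exact absurd (τ.injective (h2.trans h1.symm)) hαβ.symm
      · rw [h1, h2, Equiv.swap_apply_right]
      · rw [h1, h2, Equiv.swap_apply_left]
      · exact absurd (τ.injective (h2.trans h1.symm)) hαβ.symm
    · obtain ⟨h3, h4⟩ := hA i hi hi'
      rw [Equiv.swap_apply_of_ne_of_ne hi hi', Equiv.swap_apply_of_ne_of_ne h3 h4]
  have hcomm : y⁻¹ * swp F k α β = swp F k α β * y⁻¹ := by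
    apply gl_eq_of_tp
    intro xs
    rw [Units.val_mul, Units.val_mul, ← Matrix.mulVec_mulVec, ← Matrix.mulVec_mulVec, swp_tp, hmon, hmon, swp_tp]
    simp only [← hτs]
    funext a
    rw [tp_apply, tp_apply, prod_two hαβ, prod_two hαβ]
    simp only [Equiv.swap_apply_left, Equiv.swap_apply_right]
    rw [hE, hE]
    have e1 : ∏ j ∈ (Finset.univ.erase α).erase β, ((hs j).val *ᵥ xs (τ (Equiv.swap α β j))) (a j) =
        ∏ j ∈ (Finset.univ.erase α).erase β,
          ((hs (Equiv.swap α β j)).val *ᵥ xs (τ (Equiv.swap α β j))) (a j) := by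
      refine Finset.prod_congr rfl fun j hj => ?_
      rw [Finset.mem_erase, Finset.mem_erase] at hj
      rw [Equiv.swap_apply_of_ne_of_ne hj.2.1 hj.1]
    rw [e1, Pi.smul_apply, Pi.smul_apply, smul_eq_mul, smul_eq_mul]
    ring
  calc swp F k α β * y = y * (y⁻¹ * swp F k α β) * y := by group
    _ = y * swp F k α β := by rw [hcomm]; group

end Cfsg.Agent.H663.EP
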