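import Cfsg.Agent.H663.EP.Kill
import Cfsg.Prelude.Def_ClassicalGeometry

/-!
# S3499: models by the isometry group of a Gram matrix (helper663)

`isoG G` : the group of the matrices `g` with `gᵀ G g = G`; `exists_model` : a model of `Q` by `spGL k F` gives one by
`isoG G`, if `sympForm` has the Gram matrix `c • G` in the coordinates given by `e`, `P`.
-/

set_option autoImplicit false

namespace Cfsg.Agent.H663.EP

open Subgroup Cfsg.Agent.H284 Cfsg.Agent.H419.EP Matrix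
open scoped MatrixGroups

section isoG

variable {κ : Type} [Fintype κ] [DecidableEq κ] {F : Type*} [Field F]

/-- the isometry group of the form with Gram matrix `G` -/
def isoG (G : Matrix κ κ F) : Subgroup (GL κ F) where
  carrier := {g | (g : Matrix κ κ F)ᵀ * G * (g : Matrix κ κ F) = G}
  one_mem' := by simp
  mul_mem' := by
    intro a b ha hb
    change ((a * b : GL κ F) : Matrix κ κ F)ᵀ * G * ((a * b : GL κ F) : Matrix κ κ F) = G
    rw [Units.val_mul, Matrix.transpose_mul]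
    calc (b : Matrix κ κ F)ᵀ * (a : Matrix κ κ F)ᵀ * G * ((a : Matrix κ κ F) * b)
        = (b : Matrix κ κ F)ᵀ * ((a : Matrix κ κ F)ᵀ * G * (a : Matrix κ κ F)) * b := by
          simp only [Matrix.mul_assoc]
      _ = G := by rw [ha, hb]
  inv_mem' := by
    intro a ha
    change ((a⁻¹ : GL κ F) : Matrix κ κ F)ᵀ * G * ((a⁻¹ : GL κ F) : Matrix κ κ F) = G
    have h1 : (a : Matrix κ κ F)ᵀ * G * (a : Matrix κ κ F) = G := ha
    have h2 : ((a⁻¹ : GL κ F) : Matrix κ κ F)ᵀ * (a : Matrix κ κ F)ᵀ = 1 := by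
      rw [← Matrix.transpose_mul, ← Units.val_mul, mul_inv_cancel, Units.val_one, Matrix.transpose_one]
    have h3 : (a : Matrix κ κ F) * ((a⁻¹ : GL κ F) : Matrix κ κ F) = 1 := by
      rw [← Units.val_mul, mul_inv_cancel, Units.val_one]
    calc ((a⁻¹ : GL κ F) : Matrix κ κ F)ᵀ * G * ((a⁻¹ : GL κ F) : Matrix κ κ F)
        = ((a⁻¹ : GL κ F) : Matrix κ κ F)ᵀ * ((a : Matrix κ κ F)ᵀ * G * (a : Matrix κ κ F)) *
          ((a⁻¹ : GL κ F) : Matrix κ κ F) := by rw [h1]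
      _ = (((a⁻¹ : GL κ F) : Matrix κ κ F)ᵀ * (a : Matrix κ κ F)ᵀ) * G *
          ((a : Matrix κ κ F) * ((a⁻¹ : GL κ F) : Matrix κ κ F)) := by simp only [Matrix.mul_assoc]
      _ = G := by rw [h2, h3, Matrix.one_mul, Matrix.mul_one]

theorem mem_isoG {G : Matrix κ κ F} {g : GL κ F} :
    g ∈ isoG G ↔ (g : Matrix κ κ F)ᵀ * G * (g : Matrix κ κ F) = G := Iff.rfl

theorem mem_isoG_iff {G : Matrix κ κ F} {g : GL κ F} :
    g ∈ isoG G ↔ ∀ x y : κ → F, ((g : Matrix κ κ F) *ᵥ x) ⬝ᵥ (G *ᵥ ((g : Matrix κ κ F) *ᵥ y)) = x ⬝ᵥ (G *ᵥ y) := by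
  have key : ∀ x y : κ → F, ((g : Matrix κ κ F) *ᵥ x) ⬝ᵥ (G *ᵥ ((g : Matrix κ κ F) *ᵥ y)) =
      x ⬝ᵥ (((g : Matrix κ κ F)ᵀ * G * (g : Matrix κ κ F)) *ᵥ y) := by
    intro x y
    rw [Matrix.mulVec_mulVec, ← Matrix.vecMul_transpose, ← Matrix.dotProduct_mulVec, Matrix.mulVec_mulVec,
      ← Matrix.mul_assoc]
  rw [mem_isoG]
  constructor
  · intro h x y
    rw [key, h]
  · intro h
    ext i j
    have h1 := h (Pi.single i 1) (Pi.single j 1)
    rw [key] at h1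
    simpa using h1

end isoG

section transport

variable {Q : Type*} [Group Q] {ι κ : Type} [Fintype ι] [DecidableEq ι] [Fintype κ] [DecidableEq κ] {F : Type*}
  [Field F]

/-- the change of frame -/
def frame (e : ι ≃ κ) (P : GL ι F) : GL κ F ≃* GL ι F := (Cfsg.Geo.glReindex e.symm).trans (MulAut.conj P)

theorem frame_val (e : ι ≃ κ) (P : GL ι F) (g : GL κ F) :
    ((frame e P g : GL ι F) : Matrix ι ι F) =
      (P : Matrix ι ι F) * (Matrix.reindexAlgEquiv F F e.symm (g : Matrix κ κ F)) * ((P⁻¹ : GL ι F) : Matrix ι ι F) := by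
  simp [frame, Cfsg.Geo.glReindex]

theorem frame_mulVec (e : ι ≃ κ) (P : GL ι F) (g : GL κ F) (x : κ → F) :
    ((frame e P g : GL ι F) : Matrix ι ι F) *ᵥ ((P : Matrix ι ι F) *ᵥ (x ∘ e)) =
      (P : Matrix ι ι F) *ᵥ (((g : Matrix κ κ F) *ᵥ x) ∘ e) := by
  rw [frame_val, Matrix.mulVec_mulVec, Matrix.mul_assoc, ← Units.val_mul, inv_mul_cancel, Units.val_one,
    Matrix.mul_one, ← Matrix.mulVec_mulVec]
  congr 1
  funext i
  simp only [Matrix.mulVec, dotProduct, Matrix.coe_reindexAlgEquiv, Matrix.reindex_apply, Matrix.submatrix_apply,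
    Function.comp_apply, Equiv.symm_symm]
  exact Equiv.sum_comp e (fun j => (g : Matrix κ κ F) (e i) j * x j)

theorem frame_scalars (e : ι ≃ κ) (P : GL ι F) (g : GL κ F) :
    frame e P g ∈ Cfsg.Geo.scalars ι F ↔ g ∈ Cfsg.Geo.scalars κ F := by
  rw [Cfsg.Geo.mem_scalars_iff, Cfsg.Geo.mem_scalars_iff]
  constructor
  · rintro ⟨c, hc⟩
    refine ⟨c, ?_⟩
    rw [frame_val] at hc
    have h1 : (Matrix.reindexAlgEquiv F F e.symm (g : Matrix κ κ F)) = (c : F) • (1 : Matrix ι ι F) := by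
      have := congrArg (fun Z => ((P⁻¹ : GL ι F) : Matrix ι ι F) * Z * (P : Matrix ι ι F)) hc
      simpa [mul_assoc] using this
    apply (Matrix.reindexAlgEquiv F F e.symm).injective
    rw [h1, map_smul, map_one]
  · rintro ⟨c, hc⟩
    refine ⟨c, ?_⟩
    rw [frame_val, hc, map_smul, map_one, Matrix.mul_smul, Matrix.mul_one, Matrix.smul_mul, ← Units.val_mul,
      mul_inv_cancel, Units.val_one]

/-- the transported model -/
theorem exists_model {k : ℕ} (m : Model Q (Cfsg.spGL k F)) (e : (Fin k ⊕ Fin k) ≃ κ) (P : GL (Fin k ⊕ Fin k) F)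
    (G : Matrix κ κ F) {c : F} (hc : c ≠ 0)
    (hf : ∀ x y : κ → F, Cfsg.sympForm k F ((P : Matrix _ _ F) *ᵥ (x ∘ e)) ((P : Matrix _ _ F) *ᵥ (y ∘ e)) =
      c * (x ⬝ᵥ (G *ᵥ y))) :
    ∃ m' : Model Q (isoG G), ∀ A : Subgroup Q, ∀ g : GL κ F, g ∈ m'.hat A ↔ frame e P g ∈ m.hat A := by
  have hS : ∀ g : GL κ F, g ∈ isoG G ↔ frame e P g ∈ Cfsg.spGL k F := by
    intro g
    rw [mem_isoG_iff]
    constructor
    · intro h u v
      obtain ⟨x, rfl⟩ : ∃ x : κ → F, u = (P : Matrix _ _ F) *ᵥ (x ∘ e) := by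
        refine ⟨(((P⁻¹ : GL (Fin k ⊕ Fin k) F) : Matrix _ _ F) *ᵥ u) ∘ e.symm, ?_⟩
        have : ((((P⁻¹ : GL (Fin k ⊕ Fin k) F) : Matrix _ _ F) *ᵥ u) ∘ e.symm) ∘ e =
            ((P⁻¹ : GL (Fin k ⊕ Fin k) F) : Matrix _ _ F) *ᵥ u := by
          funext i
          simp
        rw [this, Matrix.mulVec_mulVec, ← Units.val_mul, mul_inv_cancel, Units.val_one, Matrix.one_mulVec]
      obtain ⟨y, rfl⟩ : ∃ y : κ → F, v = (P : Matrix _ _ F) *ᵥ (y ∘ e) := by
        refine ⟨(((P⁻¹ : GL (Fin k ⊕ Fin k) F) : Matrix _ _ F) *ᵥ v) ∘ e.symm, ?_⟩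
        have : ((((P⁻¹ : GL (Fin k ⊕ Fin k) F) : Matrix _ _ F) *ᵥ v) ∘ e.symm) ∘ e =
            ((P⁻¹ : GL (Fin k ⊕ Fin k) F) : Matrix _ _ F) *ᵥ v := by
          funext i
          simp
        rw [this, Matrix.mulVec_mulVec, ← Units.val_mul, mul_inv_cancel, Units.val_one, Matrix.one_mulVec]
      change Cfsg.sympForm k F (((frame e P g : GL (Fin k ⊕ Fin k) F) : Matrix (Fin k ⊕ Fin k) (Fin k ⊕ Fin k) F) *ᵥ _)
        (((frame e P g : GL (Fin k ⊕ Fin k) F) : Matrix (Fin k ⊕ Fin k) (Fin k ⊕ Fin k) F) *ᵥ _) = _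
      rw [frame_mulVec, frame_mulVec, hf, hf, h]
    · intro h x y
      have h1 := h ((P : Matrix _ _ F) *ᵥ (x ∘ e)) ((P : Matrix _ _ F) *ᵥ (y ∘ e))
      change Cfsg.sympForm k F
        (((frame e P g : GL (Fin k ⊕ Fin k) F) : Matrix (Fin k ⊕ Fin k) (Fin k ⊕ Fin k) F) *ᵥ _)
        (((frame e P g : GL (Fin k ⊕ Fin k) F) : Matrix (Fin k ⊕ Fin k) (Fin k ⊕ Fin k) F) *ᵥ _) = _ at h1
      rw [frame_mulVec, frame_mulVec, hf, hf] at h1
      exact mul_left_cancel₀ hc h1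
  let f : isoG G →* Cfsg.spGL k F :=
    ((frame e P).toMonoidHom.comp (isoG G).subtype).codRestrict _ fun s => (hS s).1 s.2
  have hfv : ∀ s : isoG G, ((f s : Cfsg.spGL k F) : GL _ F) = frame e P s := fun s => rfl
  refine ⟨⟨m.π.comp f, ?_, ?_⟩, ?_⟩
  · intro q
    obtain ⟨s, rfl⟩ := m.surj q
    have h1 : (frame e P).symm (s : GL _ F) ∈ isoG G := by
      rw [hS, MulEquiv.apply_symm_apply]
      exact s.2
    refine ⟨⟨_, h1⟩, ?_⟩
    change m.π (f ⟨_, h1⟩) = m.π s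
    congr 1
    apply Subtype.ext
    rw [hfv]
    exact MulEquiv.apply_symm_apply _ _
  · intro s
    change m.π (f s) = 1 ↔ _
    rw [m.ker, hfv, frame_scalars]
  · intro A g
    rw [Model.mem_hat, Model.mem_hat]
    constructor
    · rintro ⟨hg, h1⟩
      exact ⟨(hS g).1 hg, h1⟩
    · rintro ⟨hg, h1⟩
      exact ⟨(hS g).2 hg, h1⟩

end transport

end Cfsg.Agent.H663.EP
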