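import Cfsg.Agent.H663.EP.SympVec

/-!
# S3499: the tensor product subgroups of `Sp` (helper663)
-/

set_option autoImplicit false
set_option linter.unusedSectionVars false

namespace Cfsg.Agent.H663.EP

open Matrix Cfsg.Geo Subgroup Cfsg.Agent.H284 Cfsg.Agent.H419.EP
open scoped MatrixGroups Kronecker

section kron

variable {F : Type*} [Field F] {p q : ℕ}

/-- `a ⊗ b = a' ⊗ b'`, `b ≠ 0` -/
theorem kron_eq {A A' : Matrix (Fin p) (Fin p) F} {B B' : Matrix (Fin q) (Fin q) F} (h : A ⊗ₖ B = A' ⊗ₖ B')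
    (hB : B ≠ 0) : ∃ c : F, A = c • A' := by
  obtain ⟨j, l, hjl⟩ : ∃ j l, B j l ≠ 0 := by
    by_contra hcon
    push Not at hcon
    exact hB (by ext j l; exact hcon j l)
  refine ⟨(B j l)⁻¹ * B' j l, ?_⟩
  ext i k
  have h1 : A i k * B j l = A' i k * B' j l := by
    have := congrFun (congrFun h (i, j)) (k, l)
    simpa [Matrix.kroneckerMap_apply] using this
  rw [Matrix.smul_apply, smul_eq_mul]
  field_simp
  rw [h1]
  ring

theorem kron_eq' {A A' : Matrix (Fin p) (Fin p) F} {B B' : Matrix (Fin q) (Fin q) F} (h : A ⊗ₖ B = A' ⊗ₖ B')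
    (hA : A ≠ 0) : ∃ c : F, B = c • B' := by
  obtain ⟨j, l, hjl⟩ : ∃ j l, A j l ≠ 0 := by
    by_contra hcon
    push Not at hcon
    exact hA (by ext j l; exact hcon j l)
  refine ⟨(A j l)⁻¹ * A' j l, ?_⟩
  ext i k
  have h1 : A j l * B i k = A' j l * B' i k := by
    have := congrFun (congrFun h (j, i)) (l, k)
    simpa [Matrix.kroneckerMap_apply] using this
  rw [Matrix.smul_apply, smul_eq_mul]
  field_simp
  rw [mul_comm, h1]

theorem kron_cancel {A : Matrix (Fin p) (Fin p) F} {B B' : Matrix (Fin q) (Fin q) F} (h : A ⊗ₖ B = A ⊗ₖ B')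
    (hA : A ≠ 0) : B = B' := by
  obtain ⟨j, l, hjl⟩ : ∃ j l, A j l ≠ 0 := by
    by_contra hcon
    push Not at hcon
    exact hA (by ext j l; exact hcon j l)
  ext i k
  have := congrFun (congrFun h (j, i)) (l, k)
  simp only [Matrix.kroneckerMap_apply] at this
  exact mul_left_cancel₀ hjl this

/-- the Kronecker product of invertible matrices -/
def kr (a : GL (Fin p) F) (b : GL (Fin q) F) : GL (Fin p × Fin q) F where
  val := (a : Matrix _ _ F) ⊗ₖ (b : Matrix _ _ F)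
  inv := ((a⁻¹ : GL (Fin p) F) : Matrix _ _ F) ⊗ₖ ((b⁻¹ : GL (Fin q) F) : Matrix _ _ F)
  val_inv := by
    rw [← Matrix.mul_kronecker_mul, ← Units.val_mul, ← Units.val_mul, mul_inv_cancel, mul_inv_cancel,
      Units.val_one, Units.val_one, Matrix.one_kronecker_one]
  inv_val := by
    rw [← Matrix.mul_kronecker_mul, ← Units.val_mul, ← Units.val_mul, inv_mul_cancel, inv_mul_cancel,
      Units.val_one, Units.val_one, Matrix.one_kronecker_one]

theorem kr_val (a : GL (Fin p) F) (b : GL (Fin q) F) :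
    (kr a b : Matrix (Fin p × Fin q) (Fin p × Fin q) F) = (a : Matrix _ _ F) ⊗ₖ (b : Matrix _ _ F) := rfl

theorem kr_mem (a : GL (Fin p) F) (b : GL (Fin q) F) : kr a b ∈ kroneckerSubgroup p q F := ⟨a, b, rfl⟩

theorem exists_kr {g : GL (Fin p × Fin q) F} (hg : g ∈ kroneckerSubgroup p q F) :
    ∃ (a : GL (Fin p) F) (b : GL (Fin q) F), g = kr a b := by
  obtain ⟨a, b, h⟩ := hg
  exact ⟨a, b, Units.ext h⟩

theorem gl_ne_zero {n : ℕ} (hn : 0 < n) (a : GL (Fin n) F) : (a : Matrix (Fin n) (Fin n) F) ≠ 0 := by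
  intro h
  have : Nonempty (Fin n) := ⟨⟨0, hn⟩⟩
  have h1 : (a : Matrix (Fin n) (Fin n) F) * ((a⁻¹ : GL (Fin n) F) : Matrix _ _ F) = 1 := by
    rw [← Units.val_mul, mul_inv_cancel, Units.val_one]
  rw [h, Matrix.zero_mul] at h1
  exact zero_ne_one h1

/-- a nonzero vector killed by two functionals in dimension at least three -/
theorem exists_ortho_two {n : ℕ} (hn : 3 ≤ n) (φ ψ : Fin n → F) : ∃ z : Fin n → F, z ≠ 0 ∧ φ ⬝ᵥ z = 0 ∧ ψ ⬝ᵥ z = 0 := by
  let L : (Fin n → F) →ₗ[F] (Fin 2 → F) :=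
    (Matrix.of ![φ, ψ] : Matrix (Fin 2) (Fin n) F).mulVecLin
  have h1 : LinearMap.ker L ≠ ⊥ := by
    apply LinearMap.ker_ne_bot_of_finrank_lt
    rw [Module.finrank_fintype_fun_eq_card, Module.finrank_fintype_fun_eq_card, Fintype.card_fin, Fintype.card_fin]
    omega
  obtain ⟨z, hz, hz0⟩ := (Submodule.ne_bot_iff _).1 h1
  have h2 : (Matrix.of ![φ, ψ] : Matrix (Fin 2) (Fin n) F) *ᵥ z = 0 := hz
  refine ⟨z, hz0, ?_, ?_⟩
  · have := congrFun h2 0
    simpa [Matrix.mulVec] using this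
  · have := congrFun h2 1
    simpa [Matrix.mulVec] using this

end kron

section core

variable {F : Type*} [Field F] {p q : ℕ}

/-- the data of the transvection `1 + N ⊗ E` -/
structure Dat (G₁ : Matrix (Fin p) (Fin p) F) (G₂ : Matrix (Fin q) (Fin q) F) (N : Matrix (Fin p) (Fin p) F)
    (E : Matrix (Fin q) (Fin q) F) : Prop where
  p0 : 0 < p
  q0 : 0 < q
  N2 : N * N = 0
  N0 : N ≠ 0
  NG : Nᵀ * G₁ = -(G₁ * N)
  E2 : E * E = E
  E0 : E ≠ 0
  EG : Eᵀ * G₂ = G₂ * E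
  big : ∀ b : GL (Fin q) F, (1 - E) * (b : Matrix (Fin q) (Fin q) F) * (1 - E) ≠ 0

variable {G₁ : Matrix (Fin p) (Fin p) F} {G₂ : Matrix (Fin q) (Fin q) F} {N : Matrix (Fin p) (Fin p) F}
  {E : Matrix (Fin q) (Fin q) F} (D : Dat G₁ G₂ N E)

include D

theorem Dat.ne_smul {c : F} : 1 + N ≠ c • (1 : Matrix (Fin p) (Fin p) F) := by
  intro h
  have h1 : N = (c - 1) • (1 : Matrix (Fin p) (Fin p) F) := by
    rw [sub_smul, ← h, one_smul, add_sub_cancel_left]
  have h2 := D.N2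
  rw [h1, Matrix.smul_mul, Matrix.one_mul, smul_smul] at h2
  have : Nonempty (Fin p) := ⟨⟨0, D.p0⟩⟩
  rcases smul_eq_zero.1 h2 with h3 | h3
  · apply D.N0
    rw [h1]
    have h4 : c - 1 = 0 := by simpa using h3
    rw [h4, zero_smul]
  · exact one_ne_zero h3

omit D in
theorem unit_cancel {n : ℕ} (a : GL (Fin n) F) {X Y : Matrix (Fin n) (Fin n) F}
    (h : (a : Matrix (Fin n) (Fin n) F) * X = (a : Matrix (Fin n) (Fin n) F) * Y) : X = Y := by
  have h1 := congrArg (fun Z => ((a⁻¹ : GL (Fin n) F) : Matrix _ _ F) * Z) h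
  simpa [← Matrix.mul_assoc, ← Units.val_mul] using h1

omit D in
theorem unit_cancel_right {n : ℕ} (a : GL (Fin n) F) {X Y : Matrix (Fin n) (Fin n) F}
    (h : X * (a : Matrix (Fin n) (Fin n) F) = Y * (a : Matrix (Fin n) (Fin n) F)) : X = Y := by
  have h1 := congrArg (fun Z => Z * ((a⁻¹ : GL (Fin n) F) : Matrix _ _ F)) h
  simpa [Matrix.mul_assoc, ← Units.val_mul] using h1

omit D in
/-- the transvection -/
def Dat.x (D : Dat G₁ G₂ N E) : GL (Fin p × Fin q) F where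
  val := 1 + N ⊗ₖ E
  inv := 1 - N ⊗ₖ E
  val_inv := by
    rw [mul_sub, mul_one, add_mul, one_mul, ← Matrix.mul_kronecker_mul, D.N2, Matrix.zero_kronecker, add_zero]
    abel
  inv_val := by
    rw [mul_add, mul_one, sub_mul, one_mul, ← Matrix.mul_kronecker_mul, D.N2, Matrix.zero_kronecker, sub_zero]
    abel

theorem Dat.x_val : (D.x : Matrix (Fin p × Fin q) (Fin p × Fin q) F) = 1 + N ⊗ₖ E := rfl

/-- **the elements of `M ∩ M^x`** -/
theorem Dat.comm {a : GL (Fin p) F} {b : GL (Fin q) F} (h : kr a b ∈ cj D.x (kroneckerSubgroup p q F)) :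
    (a : Matrix (Fin p) (Fin p) F) * N = N * (a : Matrix (Fin p) (Fin p) F) ∧ (b : Matrix (Fin q) (Fin q) F) * E = E * (b : Matrix (Fin q) (Fin q) F) := by
  obtain ⟨a', b', hab⟩ := exists_kr (mem_cj.1 h)
  have h0 : kr a b * D.x = D.x * kr a' b' := by rw [← hab]; group
  have h1 : ((a : Matrix (Fin p) (Fin p) F) ⊗ₖ (b : Matrix (Fin q) (Fin q) F)) * (1 + N ⊗ₖ E) =
      (1 + N ⊗ₖ E) * ((a' : Matrix (Fin p) (Fin p) F) ⊗ₖ (b' : Matrix (Fin q) (Fin q) F)) := by
    have := congrArg Units.val h0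
    rwa [Units.val_mul, Units.val_mul, D.x_val, kr_val, kr_val] at this
  rw [mul_add, add_mul, mul_one, one_mul, ← Matrix.mul_kronecker_mul, ← Matrix.mul_kronecker_mul] at h1
  have hXY : ∀ X Y : Matrix (Fin q) (Fin q) F,
      (a : Matrix (Fin p) (Fin p) F) ⊗ₖ (X * (b : Matrix (Fin q) (Fin q) F) * Y) + ((a : Matrix (Fin p) (Fin p) F) * N) ⊗ₖ (X * ((b : Matrix (Fin q) (Fin q) F) * E) * Y) =
      (a' : Matrix (Fin p) (Fin p) F) ⊗ₖ (X * (b' : Matrix (Fin q) (Fin q) F) * Y) +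
        (N * (a' : Matrix (Fin p) (Fin p) F)) ⊗ₖ (X * (E * (b' : Matrix (Fin q) (Fin q) F)) * Y) := by
    intro X Y
    have h2 := congrArg (fun Z => ((1 : Matrix (Fin p) (Fin p) F) ⊗ₖ X) * Z * ((1 : Matrix (Fin p) (Fin p) F) ⊗ₖ Y)) h1
    simp only [mul_add, add_mul, ← Matrix.mul_kronecker_mul, one_mul, mul_one] at h2
    exact h2
  have hP : E * (1 - E) = 0 := by rw [mul_sub, mul_one, D.E2, sub_self]
  have hP' : (1 - E) * E = 0 := by rw [sub_mul, one_mul, D.E2, sub_self]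
  have ha := gl_ne_zero D.p0 a
  have ha' := gl_ne_zero D.p0 a'
  -- (1)
  obtain ⟨c, hc⟩ : ∃ c : F, (a : Matrix (Fin p) (Fin p) F) = c • (a' : Matrix (Fin p) (Fin p) F) := by
    have h3 := hXY (1 - E) (1 - E)
    have e1 : (1 - E) * ((b : Matrix (Fin q) (Fin q) F) * E) * (1 - E) = 0 := by
      rw [Matrix.mul_assoc, Matrix.mul_assoc, hP, Matrix.mul_zero, Matrix.mul_zero]
    have e2 : (1 - E) * (E * (b' : Matrix (Fin q) (Fin q) F)) * (1 - E) = 0 := by
      rw [← Matrix.mul_assoc, hP', Matrix.zero_mul, Matrix.zero_mul]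
    rw [e1, e2, Matrix.kronecker_zero, Matrix.kronecker_zero, add_zero, add_zero] at h3
    exact kron_eq h3 (D.big b)
  have hc0 : c ≠ 0 := by
    rintro rfl
    rw [zero_smul] at hc
    exact ha hc
  have hc' : (a' : Matrix (Fin p) (Fin p) F) = c⁻¹ • (a : Matrix (Fin p) (Fin p) F) := by
    rw [hc, smul_smul, inv_mul_cancel₀ hc0, one_smul]
  -- (2)
  have h2 : (1 - E) * (b : Matrix (Fin q) (Fin q) F) * E = 0 := by
    by_contra hne
    have h3 := hXY (1 - E) E
    have e1 : (1 - E) * ((b : Matrix (Fin q) (Fin q) F) * E) * E = (1 - E) * (b : Matrix (Fin q) (Fin q) F) * E := by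
      rw [Matrix.mul_assoc, Matrix.mul_assoc, D.E2, Matrix.mul_assoc]
    have e2 : (1 - E) * (E * (b' : Matrix (Fin q) (Fin q) F)) * E = 0 := by
      rw [← Matrix.mul_assoc, hP', Matrix.zero_mul, Matrix.zero_mul]
    rw [e1, e2, Matrix.kronecker_zero, add_zero, ← Matrix.add_kronecker] at h3
    obtain ⟨d, hd⟩ := kron_eq h3 hne
    rw [hc', smul_smul] at hd
    apply D.ne_smul (c := d * c⁻¹)
    apply unit_cancel a
    rw [mul_add, Matrix.mul_one, hd, Matrix.mul_smul, Matrix.mul_one]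
  -- (3)
  have h3 : E * (b : Matrix (Fin q) (Fin q) F) * (1 - E) = 0 := by
    by_contra hne
    have h3 := hXY E (1 - E)
    have e1 : E * ((b : Matrix (Fin q) (Fin q) F) * E) * (1 - E) = 0 := by
      rw [Matrix.mul_assoc, Matrix.mul_assoc, hP, Matrix.mul_zero, Matrix.mul_zero]
    have e2 : E * (E * (b' : Matrix (Fin q) (Fin q) F)) * (1 - E) = E * (b' : Matrix (Fin q) (Fin q) F) * (1 - E) := by
      rw [← Matrix.mul_assoc, D.E2]
    rw [e1, e2, Matrix.kronecker_zero, add_zero, ← Matrix.add_kronecker] at h3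
    obtain ⟨d, hd⟩ := kron_eq h3 hne
    have h4 : (a : Matrix (Fin p) (Fin p) F) = (d * c⁻¹) • ((1 + N) * (a : Matrix (Fin p) (Fin p) F)) := by
      rw [hc', Matrix.mul_smul, ← smul_add, smul_smul] at hd
      rw [add_mul, one_mul]
      exact hd
    have hd0 : d * c⁻¹ ≠ 0 := by
      intro h5
      rw [h5, zero_smul] at h4
      exact ha h4
    apply D.ne_smul (c := (d * c⁻¹)⁻¹)
    apply unit_cancel_right a
    rw [Matrix.smul_mul, Matrix.one_mul]
    conv_rhs => rw [h4]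
    rw [smul_smul, inv_mul_cancel₀ hd0, one_smul]
  have h4 : (b : Matrix (Fin q) (Fin q) F) * E = E * (b : Matrix (Fin q) (Fin q) F) * E := by
    rw [sub_mul, sub_mul, one_mul, sub_eq_zero] at h2
    exact h2
  have h5 : E * (b : Matrix (Fin q) (Fin q) F) = E * (b : Matrix (Fin q) (Fin q) F) * E := by
    rw [mul_sub, mul_one, sub_eq_zero] at h3
    exact h3
  refine ⟨?_, h4.trans h5.symm⟩
  -- (4)
  have h6 := hXY E E
  have e1 : E * ((b : Matrix (Fin q) (Fin q) F) * E) * E = E * (b : Matrix (Fin q) (Fin q) F) * E := by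
    rw [Matrix.mul_assoc, Matrix.mul_assoc, D.E2, Matrix.mul_assoc]
  have e2 : E * (E * (b' : Matrix (Fin q) (Fin q) F)) * E = E * (b' : Matrix (Fin q) (Fin q) F) * E := by
    rw [← Matrix.mul_assoc, D.E2]
  rw [e1, e2, ← Matrix.add_kronecker, ← Matrix.add_kronecker] at h6
  obtain ⟨d, hd⟩ := kron_eq h6 (by
    rw [← h4]
    intro h7
    apply D.E0
    apply unit_cancel b
    rw [h7, Matrix.mul_zero])
  rw [hc', Matrix.mul_smul, ← smul_add, smul_smul] at hd
  refine comm_of_smul (c := d * c⁻¹) a.isUnit D.N2 D.N0 ?_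
  rw [mul_add, Matrix.mul_one, add_mul, Matrix.one_mul]
  exact hd

end core

end Cfsg.Agent.H663.EP
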