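import Cfsg.Agent.H663.EP.Gram

/-!
# Rank one operators of an alternating form (helper663)

`G` a skew-symmetric alternating nondegenerate Gram matrix on `κ → F`; `nu G u` : `z ↦ f(z, u) u`.
`scalar_of_comm` : an invertible `a` commuting with `nu G u` for all `u` orthogonal to `v` and with scalar square is
scalar.
-/

set_option autoImplicit false
set_option linter.unusedSectionVars false

namespace Cfsg.Agent.H663.EP

open Matrix
open scoped MatrixGroups

section alt

variable {κ : Type} [Fintype κ] [DecidableEq κ] {F : Type*} [Field F]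

/-- the form with Gram matrix `G` -/
def fo (G : Matrix κ κ F) (x y : κ → F) : F := x ⬝ᵥ (G *ᵥ y)

theorem fo_add_left (G : Matrix κ κ F) (x x' y : κ → F) : fo G (x + x') y = fo G x y + fo G x' y := by
  unfold fo; rw [add_dotProduct]

theorem fo_smul_left (G : Matrix κ κ F) (c : F) (x y : κ → F) : fo G (c • x) y = c * fo G x y := by
  unfold fo; rw [smul_dotProduct, smul_eq_mul]

theorem fo_add_right (G : Matrix κ κ F) (x y y' : κ → F) : fo G x (y + y') = fo G x y + fo G x y' := by
  unfold fo; rw [Matrix.mulVec_add, dotProduct_add]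

theorem fo_smul_right (G : Matrix κ κ F) (c : F) (x y : κ → F) : fo G x (c • y) = c * fo G x y := by
  unfold fo; rw [Matrix.mulVec_smul, dotProduct_smul, smul_eq_mul]

theorem fo_sub_left (G : Matrix κ κ F) (x x' y : κ → F) : fo G (x - x') y = fo G x y - fo G x' y := by
  unfold fo; rw [sub_dotProduct]

theorem fo_sub_right (G : Matrix κ κ F) (x y y' : κ → F) : fo G x (y - y') = fo G x y - fo G x y' := by
  unfold fo; rw [Matrix.mulVec_sub, dotProduct_sub]

theorem fo_zero_left (G : Matrix κ κ F) (y : κ → F) : fo G 0 y = 0 := by unfold fo; rw [zero_dotProduct]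

theorem fo_zero_right (G : Matrix κ κ F) (x : κ → F) : fo G x 0 = 0 := by
  unfold fo; rw [Matrix.mulVec_zero, dotProduct_zero]

/-- a nondegenerate alternating form -/
structure Alt (G : Matrix κ κ F) : Prop where
  alt : ∀ x, fo G x x = 0
  nd : ∀ x, (∀ y, fo G x y = 0) → x = 0

theorem Alt.skew {G : Matrix κ κ F} (h : Alt G) (x y : κ → F) : fo G x y = -fo G y x := by
  have h1 := h.alt (x + y)
  rw [fo_add_left, fo_add_right, fo_add_right, h.alt, h.alt, zero_add, add_zero] at h1
  exact eq_neg_of_add_eq_zero_left h1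

theorem Alt.transpose {G : Matrix κ κ F} (h : Alt G) : Gᵀ = -G := by
  ext i j
  have h1 := h.skew (Pi.single j 1) (Pi.single i 1)
  unfold fo at h1
  simpa using h1

/-- `z ↦ f(z, u) u` -/
def nu (G : Matrix κ κ F) (u : κ → F) : Matrix κ κ F := Matrix.vecMulVec u (G *ᵥ u)

theorem nu_mulVec (G : Matrix κ κ F) (u z : κ → F) : nu G u *ᵥ z = fo G z u • u := by
  unfold nu fo
  rw [Matrix.vecMulVec_mulVec, dotProduct_comm, op_smul_eq_smul]

theorem mat_ext {A B : Matrix κ κ F} (h : ∀ z, A *ᵥ z = B *ᵥ z) : A = B := by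
  ext i j
  have := congrFun (h (Pi.single j 1)) i
  simpa using this

theorem nu_mul_nu (G : Matrix κ κ F) {u v : κ → F} (h : fo G v u = 0) : nu G u * nu G v = 0 := by
  apply mat_ext
  intro z
  rw [← Matrix.mulVec_mulVec, nu_mulVec, nu_mulVec, fo_smul_left, h, mul_zero, zero_smul, Matrix.zero_mulVec]

theorem Alt.nu_sq {G : Matrix κ κ F} (h : Alt G) (u : κ → F) : nu G u * nu G u = 0 := nu_mul_nu G (h.alt u)

theorem Alt.nu_ne {G : Matrix κ κ F} (h : Alt G) {u : κ → F} (hu : u ≠ 0) : nu G u ≠ 0 := by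
  intro e
  apply hu
  apply h.nd
  intro y
  by_contra hne
  apply hu
  have h1 := nu_mulVec G u y
  rw [e, Matrix.zero_mulVec, h.skew y u] at h1
  have h2 := h1.symm
  rw [smul_eq_zero] at h2
  rcases h2 with h2 | h2
  · exact absurd (neg_eq_zero.1 h2) hne
  · exact h2

/-- a nonzero square zero matrix is not scalar; the form used here: `a (1 + N) = c (1 + N) a` implies `a N = N a` -/
theorem comm_of_smul {N a : Matrix κ κ F} (ha : IsUnit a) (hN : N * N = 0) (hN0 : N ≠ 0) {c : F}
    (h : a * (1 + N) = c • ((1 + N) * a)) : a * N = N * a := by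
  obtain ⟨a, rfl⟩ := ha
  set b : Matrix κ κ F := ((a⁻¹ : (Matrix κ κ F)ˣ) : Matrix κ κ F) with hb
  have hab : (a : Matrix κ κ F) * b = 1 := by rw [hb, ← Units.val_mul, mul_inv_cancel, Units.val_one]
  have hba : b * (a : Matrix κ κ F) = 1 := by rw [hb, ← Units.val_mul, inv_mul_cancel, Units.val_one]
  -- `a N a⁻¹ = (c - 1) + c N`
  have h1 : (a : Matrix κ κ F) * N * b = (c - 1) • (1 : Matrix κ κ F) + c • N := by
    have h2 : (a : Matrix κ κ F) * (1 + N) * b = 1 + (a : Matrix κ κ F) * N * b := by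
      rw [mul_add, mul_one, add_mul, hab]
    rw [h, Matrix.smul_mul, Matrix.mul_assoc, hab, Matrix.mul_one, smul_add] at h2
    rw [sub_smul, one_smul, sub_add_eq_add_sub, h2, add_sub_cancel_left]
  have h2 : ((a : Matrix κ κ F) * N * b) * ((a : Matrix κ κ F) * N * b) = 0 := by
    calc ((a : Matrix κ κ F) * N * b) * ((a : Matrix κ κ F) * N * b)
        = (a : Matrix κ κ F) * N * (b * (a : Matrix κ κ F)) * N * b := by simp only [Matrix.mul_assoc]
      _ = (a : Matrix κ κ F) * (N * N) * b := by rw [hba, Matrix.mul_one, Matrix.mul_assoc (a : Matrix κ κ F)]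
      _ = 0 := by rw [hN, Matrix.mul_zero, Matrix.zero_mul]
  have h3 : (c - 1) ^ 2 • N = 0 := by
    have h4 : ((c - 1) • (1 : Matrix κ κ F) + c • N) * ((c - 1) • (1 : Matrix κ κ F) + c • N) * N = (c - 1) ^ 2 • N := by
      simp only [add_mul, mul_add, Matrix.smul_mul, Matrix.mul_smul, Matrix.one_mul, Matrix.mul_one, hN, smul_zero,
        add_zero, smul_smul]
      rw [pow_two]
    rw [← h4, ← h1, h2, Matrix.zero_mul]
  have h4 : c = 1 := by
    rcases smul_eq_zero.1 h3 with h5 | h5
    · exact sub_eq_zero.1 (pow_eq_zero_iff (two_ne_zero) |>.1 h5)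
    · exact absurd h5 hN0
  rw [h4, one_smul, mul_add, add_mul, mul_one, one_mul] at h
  exact add_left_cancel h

/-- **scalar criterion** -/
theorem Alt.scalar_of_comm {G : Matrix κ κ F} (h : Alt G) (h2 : (2 : F) ≠ 0) {v : κ → F} (hv : v ≠ 0)
    {a : Matrix κ κ F} (ha : IsUnit a) {s : F} (hs : a * a = s • (1 : Matrix κ κ F))
    (hc : ∀ u, fo G v u = 0 → a * nu G u = nu G u * a) : ∃ c : F, a = c • (1 : Matrix κ κ F) := by
  -- eigenvectors
  have hinj : ∀ x, a *ᵥ x = 0 → x = 0 := by
    intro x hx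
    obtain ⟨a', rfl⟩ := ha
    have h1 : ((a'⁻¹ : (Matrix κ κ F)ˣ) : Matrix κ κ F) *ᵥ ((a' : Matrix κ κ F) *ᵥ x) = x := by
      rw [Matrix.mulVec_mulVec, ← Units.val_mul, inv_mul_cancel, Units.val_one, Matrix.one_mulVec]
    rw [← h1, hx, Matrix.mulVec_zero]
  have key : ∀ u, fo G v u = 0 → u ≠ 0 → ∃ l : F, a *ᵥ u = l • u ∧ ∀ z, fo G (a *ᵥ z) u = l * fo G z u := by
    intro u hu hu0
    obtain ⟨y, hy⟩ : ∃ y, fo G y u ≠ 0 := by
      by_contra hcon
      push Not at hcon
      apply hu0
      apply h.nd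
      intro y
      rw [h.skew, hcon y, neg_zero]
    have h1 : ∀ z, fo G z u • (a *ᵥ u) = fo G (a *ᵥ z) u • u := by
      intro z
      have h3 := congrArg (fun Z : Matrix κ κ F => Z *ᵥ z) (hc u hu)
      simp only [← Matrix.mulVec_mulVec, nu_mulVec, Matrix.mulVec_smul] at h3
      exact h3
    refine ⟨(fo G y u)⁻¹ * fo G (a *ᵥ y) u, ?_, ?_⟩
    · rw [mul_smul, ← h1 y, smul_smul, inv_mul_cancel₀ hy, one_smul]
    · intro z
      have h3 : a *ᵥ u = ((fo G y u)⁻¹ * fo G (a *ᵥ y) u) • u := by
        rw [mul_smul, ← h1 y, smul_smul, inv_mul_cancel₀ hy, one_smul]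
      have h4 := h1 z
      rw [h3, smul_smul] at h4
      have h5 : (fo G z u * ((fo G y u)⁻¹ * fo G (a *ᵥ y) u) - fo G (a *ᵥ z) u) • u = 0 := by
        rw [sub_smul, h4, sub_self]
      rcases smul_eq_zero.1 h5 with h6 | h6
      · rw [sub_eq_zero] at h6
        rw [← h6, mul_comm]
      · exact absurd h6 hu0
  obtain ⟨l, hl, hl'⟩ := key v (h.alt v) hv
  -- the same eigenvalue on `v^⊥`
  have key2 : ∀ u, fo G v u = 0 → a *ᵥ u = l • u ∧ ∀ z, fo G (a *ᵥ z) u = l * fo G z u := by
    intro u hu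
    rcases eq_or_ne u 0 with rfl | hu0
    · refine ⟨by rw [Matrix.mulVec_zero, smul_zero], fun z => by rw [fo_zero_right, fo_zero_right, mul_zero]⟩
    obtain ⟨l', h3, h4⟩ := key u hu hu0
    have hll : l' = l := by
      by_cases hpar : ∃ c : F, u = c • v
      · obtain ⟨c, rfl⟩ := hpar
        rw [Matrix.mulVec_smul, hl, smul_comm c l v] at h3
        have h5 : (l - l') • (c • v) = 0 := by rw [sub_smul, h3, sub_self]
        rcases smul_eq_zero.1 h5 with h6 | h6
        · exact (sub_eq_zero.1 h6).symm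
        · exact absurd h6 hu0
      · have huv : u + v ≠ 0 := by
          intro e
          apply hpar
          exact ⟨-1, by rw [neg_smul, one_smul]; exact eq_neg_of_add_eq_zero_left e⟩
        obtain ⟨l'', h5, -⟩ := key (u + v) (by rw [fo_add_right, hu, h.alt, add_zero]) huv
        rw [Matrix.mulVec_add, h3, hl, smul_add] at h5
        have h6 : (l' - l'') • u = (l'' - l) • v := by
          rw [sub_smul, sub_smul, sub_eq_sub_iff_add_eq_add, h5, add_comm]
        have h7 : l' = l'' := by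
          by_contra hne
          apply hpar
          refine ⟨(l' - l'')⁻¹ * (l'' - l), ?_⟩
          rw [mul_smul, ← h6, smul_smul, inv_mul_cancel₀ (sub_ne_zero.2 hne), one_smul]
        rw [h7, sub_self, zero_smul] at h6
        rcases smul_eq_zero.1 h6.symm with h8 | h8
        · rw [h7]
          exact sub_eq_zero.1 h8
        · exact absurd h8 hv
    rw [hll] at h3 h4
    exact ⟨h3, h4⟩
  obtain ⟨y, hy⟩ : ∃ y, fo G y v ≠ 0 := by
    by_contra hcon
    push Not at hcon
    apply hv
    apply h.nd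
    intro y
    rw [h.skew, hcon y, neg_zero]
  -- `a y = l y + k v`
  have h5 : ∃ k : F, a *ᵥ y = l • y + k • v := by
    set p := a *ᵥ y - l • y with hp
    have h6 : ∀ u, fo G v u = 0 → fo G p u = 0 := by
      intro u hu
      rw [hp, fo_sub_left, fo_smul_left, (key2 u hu).2 y, sub_self]
    have h7 : p = ((fo G y v)⁻¹ * fo G y p) • v := by
      rw [← sub_eq_zero]
      apply h.nd
      intro z
      -- u = z - (f(z,v)/f(y,v)) y
      have h8 := h6 (z - (fo G z v * (fo G y v)⁻¹) • y) (by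
        rw [fo_sub_right, fo_smul_right, h.skew v z, h.skew v y]
        field_simp
        ring)
      rw [fo_sub_right, fo_smul_right, sub_eq_zero] at h8
      rw [fo_sub_left, fo_smul_left, h8, h.skew v z, h.skew p y]
      ring
    refine ⟨(fo G y v)⁻¹ * fo G y p, ?_⟩
    rw [← h7, hp]
    abel
  obtain ⟨k, hk⟩ := h5
  have hl0 : l ≠ 0 := by
    rintro rfl
    rw [zero_smul] at hl
    exact hv (hinj v hl)
  have h6 : k = 0 := by
    have h7 : (a * a) *ᵥ y = (l * l) • y + (2 * l * k) • v := by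
      rw [← Matrix.mulVec_mulVec, hk, Matrix.mulVec_add, Matrix.mulVec_smul, Matrix.mulVec_smul, hk, hl, smul_add,
        smul_smul, smul_smul, smul_smul, add_assoc, ← add_smul]
      congr 2
      ring
    rw [hs, Matrix.smul_mulVec, Matrix.one_mulVec] at h7
    have h8 := congrArg (fun z => fo G z y) h7
    simp only [fo_add_left, fo_smul_left, h.alt y, mul_zero, zero_add] at h8
    have h9 : fo G v y ≠ 0 := by rw [h.skew]; exact neg_ne_zero.2 hy
    have h10 := (mul_eq_zero.1 h8.symm).resolve_right h9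
    exact (mul_eq_zero.1 h10).resolve_left (mul_ne_zero h2 hl0)
  refine ⟨l, mat_ext fun z => ?_⟩
  rw [Matrix.smul_mulVec, Matrix.one_mulVec]
  have h7 := (key2 (z - (fo G z v * (fo G y v)⁻¹) • y) (by
    rw [fo_sub_right, fo_smul_right, h.skew v z, h.skew v y]
    field_simp
    ring)).1
  rw [Matrix.mulVec_sub, Matrix.mulVec_smul, hk, h6, zero_smul, add_zero, smul_sub, smul_comm l] at h7
  exact sub_left_injective h7

end alt

end Cfsg.Agent.H663.EP
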